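import Cfsg.Agent.Lib.Transfer.NoEightExtra.Code

/-!
# Finite checks for the case without fusion in the four-group
-/

set_option autoImplicit false
set_option maxRecDepth 100000

namespace Cfsg.Agent.Transfer.NoEightExtra

/-- An automorphism of order at most two. -/
def isInvol (f : ℕ) : Bool := isId fun n => apN f (apN f n)

theorem fixed_table : ∀ e : Bool, ((autos e).all fun f => !isInvol f || isInner (apN f) ||
    codes.any fun n => Nat.beq (apN f n) n && (!sq1N e n || !Nat.beq (vecN n) 0)) = true := by
  decide +kernel

/-- The pairs to be excluded or described. -/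
def badPair (e : Bool) (a b : ℕ) : Bool :=
  isInvol b && !isInner (apN b) && Nat.beq (apN b 1) 1 && eqG (fun n => apN a (apN b n)) (fun n => apN b (apN a n)) &&
    !isInner (fun n => apN a (apN b n)) &&
    (codes.all fun n => (!Nat.beq (apN a n) n || Nat.beq (apN b n) n) && (!Nat.beq (apN b n) n || Nat.beq (apN a n) n))

theorem pair_table : ∀ e : Bool, ((autos e).all fun a =>
    !(isInvol a && !isInner (apN a) && Nat.beq (apN a 1) 1) ||
    (autos e).all fun b => !badPair e a b || [0, 16, 1, 17].all fun i =>
      (codes.any fun r => Nat.beq (apN a (apN b r)) (mulN e r i)) &&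
        codes.any fun r => Nat.beq (apN a r) (mulN e r i)) = true := by
  decide +kernel

end Cfsg.Agent.Transfer.NoEightExtra
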