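import Cfsg.Agent.Lib.Transfer.NoEightExtra.Orbit
import Cfsg.Agent.Lib.Transfer.NoEightExtra.TablesTwo
import Cfsg.Agent.Lib.Invol.Sylow

/-!
# The case without fusion in the four-group

A conjugate `p ≠ z` of `z` in `T` with largest centralizer in `T` gives a symmetric pair `(z, p)` with four-groups
`{1, z, u, u * z}`, `{1, p, q, q * p}` centralizing each other, and the translations by `R` give two classes to
`z * q`.
-/

set_option autoImplicit false
set_option linter.style.haveILetI false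
set_option linter.unusedSectionVars false

namespace Cfsg.Agent.Transfer.NoEightExtra

open Subgroup

namespace Extra

variable {G : Type*} [Group G] [Finite G] (E : Extra G)

/-- A 2-subgroup of the centralizer of `z` is conjugate there into `T`. -/
theorem exists_into {D : Subgroup G} (hD : IsPGroup 2 ↥D) (hDz : ∀ d ∈ D, d * E.z = E.z * d) :
    ∃ c ∈ centralizer ({E.z} : Set G), ∀ d ∈ D, c * d * c⁻¹ ∈ E.T := by
  haveI : Fact (Nat.Prime 2) := ⟨Nat.prime_two⟩
  have hT : (E.T : Subgroup G) ≤ centralizer ({E.z} : Set G) := fun t ht =>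
    mem_centralizer_singleton_iff.2 (E.hzc t ht)
  have hDX : D ≤ centralizer ({E.z} : Set G) := fun d hd => mem_centralizer_singleton_iff.2 (hDz d hd)
  have hDp : IsPGroup 2 ↥(D.subgroupOf (centralizer ({E.z} : Set G))) :=
    hD.of_equiv (subgroupOfEquivOfLe hDX).symm
  obtain ⟨k, hk⟩ := Invol.exists_conj_subset_sylow hDp (E.T.subtype hT)
  refine ⟨k, k.2, fun d hd => ?_⟩
  have h := hk ⟨d, hDX hd⟩ (mem_subgroupOf.2 hd)
  exact h

/-- The partner property at every conjugate of `u`. -/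
theorem partner
    (iso : ∀ k ∈ centralizer ({E.u} : Set G), ∀ X : Subgroup G, IsPGroup 2 ↥X →
      X ≤ centralizer ({E.u} : Set G) → E.z ∈ X →
      (∀ x ∈ X, x * E.z = E.z * x) ∧ (k * E.z * k⁻¹ ∈ X → k * E.z * k⁻¹ = E.z))
    {a b : G} (hab : a * E.u * a⁻¹ = b * E.u * b⁻¹) {X : Subgroup G} (hX : IsPGroup 2 ↥X)
    (hXv : ∀ y ∈ X, y * (a * E.u * a⁻¹) = a * E.u * a⁻¹ * y) (hw : a * E.z * a⁻¹ ∈ X) :
    (∀ y ∈ X, y * (a * E.z * a⁻¹) = a * E.z * a⁻¹ * y) ∧
      (b * E.z * b⁻¹ ∈ X → b * E.z * b⁻¹ = a * E.z * a⁻¹) := by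
  let f : G →* G := (MulAut.conj a⁻¹).toMonoidHom
  have hf : ∀ y, f y = a⁻¹ * y * a := fun y => by simp [f]
  have h1 : X.map f ≤ centralizer ({E.u} : Set G) := by
    rintro _ ⟨y, hy, rfl⟩
    refine mem_centralizer_singleton_iff.2 ?_
    have h := congrArg f (hXv y hy)
    simp only [map_mul, hf] at h ⊢
    simpa [mul_assoc] using h
  have h2 : E.z ∈ X.map f := ⟨_, hw, by rw [hf]; group⟩
  have hk : a⁻¹ * b ∈ centralizer ({E.u} : Set G) := mem_centralizer_singleton_iff.2 (by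
    have e : a⁻¹ * (b * E.u * b⁻¹) * b = a⁻¹ * b * E.u := by group
    rw [← e, ← hab]; group)
  obtain ⟨k1, k2⟩ := iso _ hk _ (hX.map f) h1 h2
  refine ⟨fun y hy => ?_, fun hb => ?_⟩
  · have h := congrArg (fun s => a * s * a⁻¹) (k1 (f y) ⟨y, hy, rfl⟩)
    simpa [hf, mul_assoc] using h
  · have h := congrArg (fun s => a * s * a⁻¹) (k2 ⟨_, hb, by rw [hf]; group⟩)
    simpa [mul_assoc] using h

/-- A symmetric pair of conjugates of `z`. -/
structure Pair (k : G) : Prop where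
  mem : k * E.z * k⁻¹ ∈ E.T
  ne : k * E.z * k⁻¹ ≠ E.z
  both : ∀ a : G, (a ∈ E.T ∧ a * (k * E.z * k⁻¹) = k * E.z * k⁻¹ * a) ↔ (k⁻¹ * a * k ∈ E.T ∧ a * E.z = E.z * a)

theorem zT_comm {k : G} (hk : E.Pair k) : E.z * (k * E.z * k⁻¹) = k * E.z * k⁻¹ * E.z :=
  (E.hzc _ hk.mem).symm

theorem Pair.symm {k : G} (hk : E.Pair k) : E.Pair k⁻¹ := by
  refine ⟨?_, fun h => hk.ne ?_, fun a => ?_⟩
  · rw [inv_inv]
    exact ((hk.both E.z).1 ⟨E.zT, E.zT_comm hk⟩).1
  · rw [inv_inv] at h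
    calc k * E.z * k⁻¹ = k * (k⁻¹ * E.z * k) * k⁻¹ := by rw [h]
      _ = E.z := by group
  · rw [inv_inv]
    have h := hk.both (k * a * k⁻¹)
    have e1 : k⁻¹ * (k * a * k⁻¹) * k = a := by group
    have e2 : k * a * k⁻¹ * (k * E.z * k⁻¹) = k * E.z * k⁻¹ * (k * a * k⁻¹) ↔ a * E.z = E.z * a := by
      constructor <;> intro h
      · have := congrArg (fun s => k⁻¹ * s * k) h
        simpa [mul_assoc] using this
      · have := congrArg (fun s => k * s * k⁻¹) h
        simpa [mul_assoc] using this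
    have e3 : k * a * k⁻¹ * E.z = E.z * (k * a * k⁻¹) ↔ a * (k⁻¹ * E.z * k) = k⁻¹ * E.z * k * a := by
      constructor <;> intro h
      · have := congrArg (fun s => k⁻¹ * s * k) h
        simpa [mul_assoc] using this
      · have := congrArg (fun s => k * s * k⁻¹) h
        simpa [mul_assoc] using this
    rw [e1, e2, e3] at h
    tauto

/-- An involution of `R` other than `z` is not conjugate to `z`. -/
theorem zClass_R (hII : ¬ ∃ g : G, g * E.z * g⁻¹ = E.u) {g : G} (h : g * E.z * g⁻¹ ∈ E.R) :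
    g * E.z * g⁻¹ = E.z := by
  by_contra hne
  have h2 : g * E.z * g⁻¹ * (g * E.z * g⁻¹) = 1 := by
    rw [show g * E.z * g⁻¹ * (g * E.z * g⁻¹) = g * (E.z * E.z) * g⁻¹ by group, E.z2]; group
  have h1 : g * E.z * g⁻¹ ≠ 1 := fun h => E.z1 (by simpa using h)
  obtain ⟨c, -, hc⟩ := E.all_reach h h2 h1 hne
  exact hII ⟨c⁻¹ * g, by
    rw [show c⁻¹ * g * E.z * (c⁻¹ * g)⁻¹ = c⁻¹ * (g * E.z * g⁻¹) * c by group, ← hc]; group⟩

variable {E}
  (hII : ¬ ∃ g : G, g * E.z * g⁻¹ = E.u)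
  (iso : ∀ k ∈ centralizer ({E.u} : Set G), ∀ X : Subgroup G, IsPGroup 2 ↥X →
      X ≤ centralizer ({E.u} : Set G) → E.z ∈ X →
      (∀ x ∈ X, x * E.z = E.z * x) ∧ (k * E.z * k⁻¹ ∈ X → k * E.z * k⁻¹ = E.z))

include hII iso

/-- `z` centralizes the conjugate four-group. -/
theorem Pair.q_comm {k : G} (hk : E.Pair k) : E.z * (k * E.u * k⁻¹) = k * E.u * k⁻¹ * E.z := by
  obtain ⟨F⟩ := E.exists_frame
  have hp2 : k * E.z * k⁻¹ * (k * E.z * k⁻¹) = 1 := by
    rw [show k * E.z * k⁻¹ * (k * E.z * k⁻¹) = k * (E.z * E.z) * k⁻¹ by group, E.z2]; group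
  obtain ⟨f, hf⟩ := F.exists_rep hk.mem
  have hin : isInner (apN f) = false := by
    cases h : isInner (apN f) with
    | false => rfl
    | true => exact absurd (E.zClass_R hII (hf.mem_R hk.mem h)) hk.ne
  have h := tab_all (fixed_table F.e) hf.1
  have hi : isInvol f = true := hf.invol hp2
  simp only [hi, hin, Bool.not_true, Bool.false_or] at h
  obtain ⟨n, hn, hn'⟩ := tab_any h
  simp only [Bool.and_eq_true, Bool.or_eq_true, Bool.not_eq_true', beq_iff] at hn'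
  rw [mem_codes] at hn
  have hrp : F.φ n * (k * E.z * k⁻¹) = k * E.z * k⁻¹ * F.φ n := ((hf.fix_iff hn).1 hn'.1).symm
  -- membership in the conjugate Sylow subgroup and its action on the conjugate of `u`
  have hS : ∀ a ∈ E.T, a * (k * E.z * k⁻¹) = k * E.z * k⁻¹ * a → a * (k * E.u * k⁻¹) = k * E.u * k⁻¹ * a ∨
      a * (k * E.u * k⁻¹) = k * E.u * k⁻¹ * (k * E.z * k⁻¹) * a := by
    intro a ha hap
    rcases E.hu _ ((hk.both a).1 ⟨ha, hap⟩).1 with h | h
    · left
      have := congrArg (fun s => k * s * k⁻¹) h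
      simpa [mul_assoc] using this
    · right
      have := congrArg (fun s => k * s * k⁻¹) h
      simpa [mul_assoc] using this
  have hzz : E.z * (k * E.z * k⁻¹) = k * E.z * k⁻¹ * E.z := E.zT_comm hk
  set p := k * E.z * k⁻¹ with hpd
  set q := k * E.u * k⁻¹ with hqd
  have hqp : q * p = p * q := by
    rw [hpd, hqd, show k * E.u * k⁻¹ * (k * E.z * k⁻¹) = k * (E.u * E.z) * k⁻¹ by group, E.zu]; group
  have hmove : ∀ a b, a * q = q * p * a → b * q = q * p * b → a * p = p * a → a * b * q = q * (a * b) := by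
    intro a b ha hb hap
    calc a * b * q = a * (q * p) * b := by rw [mul_assoc, hb, ← mul_assoc]
      _ = q * p * (a * p) * b := by rw [← mul_assoc a, ha]; group
      _ = q * (p * p) * (a * b) := by rw [hap]; group
      _ = _ := by rw [hp2, mul_one]
  rcases E.R_sq _ (F.φ_mem n) with h2 | h2
  swap
  · rcases hS _ (F.φ_T n) hrp with h | h
    · have : F.φ n * F.φ n * q = q * (F.φ n * F.φ n) := by rw [mul_assoc, h, ← mul_assoc, h, mul_assoc]
      rwa [h2] at this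
    · have := hmove _ _ h h hrp
      rwa [h2] at this
  · have hv1 : F.φ n ≠ 1 ∧ F.φ n ≠ E.z := by
      have hvec : Nat.beq (vecN n) 0 = false := by
        rcases hn'.2 with h | h
        · rw [(F.sq1N_iff hn).2 h2] at h; exact absurd h (by decide)
        · exact h
      rw [Bool.eq_false_iff, ne_eq, beq_iff] at hvec
      exact ⟨fun h => hvec (by rw [F.φ_inj hn (show 0 < 32 by norm_num) (h.trans F.φ_zero.symm)]; rfl),
        fun h => hvec (by rw [F.φ_inj hn (show 16 < 32 by norm_num) (h.trans F.φ_z.symm)]; rfl)⟩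
    set v := F.φ n with hvd
    have hvT : v ∈ E.T := F.φ_T n
    have hzS : E.z ∈ E.T ∧ E.z * p = p * E.z := ⟨E.zT, hzz⟩
    have key : ∀ w, w ∈ E.R → w * p = p * w → w * w = 1 → w ≠ 1 → w ≠ E.z → w * q = q * w →
        E.z * q = q * E.z := by
      intro w hw hwp hw2 hw1 hwz hwq
      obtain ⟨a, ha, hau⟩ := E.all_reach hw hw2 hw1 hwz
      have haz : a * E.z * a⁻¹ = E.z := by rw [mem_centralizer_singleton_iff.1 ha, mul_inv_cancel_right]
      let X : Subgroup G := (E.T : Subgroup G).map (MulAut.conj k).toMonoidHom ⊓ centralizer ({w} : Set G)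
      have hX : IsPGroup 2 ↥X := (E.T.isPGroup'.map _).to_le inf_le_left
      have hzX : E.z ∈ X := ⟨⟨_, ((hk.both E.z).1 hzS).1, by simp [mul_assoc]⟩,
        mem_centralizer_singleton_iff.2 (E.hzc w (E.R_le hw)).symm⟩
      have hqX : q ∈ X := ⟨⟨E.u, E.uT, by simp [hqd]⟩, mem_centralizer_singleton_iff.2 hwq.symm⟩
      have hpr := (E.partner iso (rfl : a * E.u * a⁻¹ = a * E.u * a⁻¹) hX
        (fun y hy => by rw [hau]; exact mem_centralizer_singleton_iff.1 hy.2) (by rw [haz]; exact hzX)).1 q hqX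
      rw [haz] at hpr
      exact hpr.symm
    rcases hS v hvT hrp with h | h
    · exact key v (F.φ_mem n) hrp h2 hv1.1 hv1.2 h
    · have hvz2 : v * E.z * (v * E.z) = 1 := by
        rw [E.hzc v hvT, mul_assoc, ← mul_assoc v, E.hzc v hvT, mul_assoc E.z v, h2, mul_one, E.z2]
      have hvzp : v * E.z * p = p * (v * E.z) := by rw [mul_assoc, hzz, ← mul_assoc, hrp, mul_assoc]
      rcases hS (v * E.z) ((E.T : Subgroup G).mul_mem hvT E.zT) hvzp with h' | h'
      · refine key _ (E.R.mul_mem (F.φ_mem n) E.zR) hvzp hvz2 (fun e => hv1.2 ?_) (fun e => hv1.1 ?_) h'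
        · exact (eq_inv_of_mul_eq_one_left e).trans (inv_eq_of_mul_eq_one_right E.z2)
        · exact mul_eq_right.1 e
      · have := hmove _ _ h h' hrp
        rw [show v * (v * E.z) = E.z by rw [← mul_assoc, h2, one_mul]] at this
        exact this

/-- The translates of the conjugate pair by the four-group. -/
theorem Pair.translate {k : G} (hk : E.Pair k) {i : G} (hi : E.InU i) :
    (∃ g, g * E.u * g⁻¹ = i * (k * E.u * k⁻¹)) ∧ ∃ g, g * E.z * g⁻¹ = i * (k * E.z * k⁻¹) := by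
  obtain ⟨F⟩ := E.exists_frame
  have hqz := Pair.q_comm hII iso hk
  have hup : E.u * (k * E.z * k⁻¹) = k * E.z * k⁻¹ * E.u := by
    have h := Pair.q_comm hII iso (Pair.symm E hk)
    have := congrArg (fun s => k * s * k⁻¹) h
    simpa [mul_assoc] using this.symm
  obtain ⟨huS, -⟩ := (hk.both E.u).1 ⟨E.uT, hup⟩
  have hqe : k⁻¹ * (k * E.u * k⁻¹) * k = E.u := by group
  obtain ⟨hqT, hqp⟩ := (hk.both (k * E.u * k⁻¹)).2 ⟨by rw [hqe]; exact E.uT, hqz.symm⟩
  have huq : k * E.u * k⁻¹ * E.u = E.u * (k * E.u * k⁻¹) := by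
    rcases E.hu _ huS with h | h
    · have := congrArg (fun s => k * s * k⁻¹) h
      simpa [mul_assoc] using this.symm
    · rcases E.hu _ hqT with h' | h'
      · exact h'
      · exfalso
        have e1 : E.u * (k * E.u * k⁻¹) = k * E.u * k⁻¹ * (k * E.z * k⁻¹) * E.u := by
          have := congrArg (fun s => k * s * k⁻¹) h
          simpa [mul_assoc] using this
        have e4 : E.u * (k * E.u * k⁻¹) = E.u * (k * E.u * k⁻¹ * (E.z * (k * E.z * k⁻¹))) :=
          calc E.u * (k * E.u * k⁻¹) = k * E.u * k⁻¹ * E.u * (k * E.z * k⁻¹) := by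
                rw [e1, mul_assoc (k * E.u * k⁻¹), ← hup, ← mul_assoc]
            _ = E.u * (E.z * (k * E.u * k⁻¹)) * (k * E.z * k⁻¹) := by rw [h', mul_assoc E.u]
            _ = _ := by rw [hqz]; group
        have e5 := left_eq_mul.1 (mul_left_cancel e4)
        exact hk.ne ((eq_inv_of_mul_eq_one_right e5).trans (inv_eq_of_mul_eq_one_right E.z2))
  set q := k * E.u * k⁻¹ with hqd
  set p := k * E.z * k⁻¹ with hpd
  have hq2 : q * q = 1 := by
    rw [hqd, show k * E.u * k⁻¹ * (k * E.u * k⁻¹) = k * (E.u * E.u) * k⁻¹ by group, E.u2]; group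
  have hp2 : p * p = 1 := by
    rw [hpd, show k * E.z * k⁻¹ * (k * E.z * k⁻¹) = k * (E.z * E.z) * k⁻¹ by group, E.z2]; group
  have hqpx : q * p = (k * E.x) * E.u * (k * E.x)⁻¹ := by
    rw [show (k * E.x) * E.u * (k * E.x)⁻¹ = k * (E.x * E.u * E.x⁻¹) * k⁻¹ by group, E.xu, mul_inv_cancel_right,
      hqd, hpd]
    group
  have hkx : (k * E.x) * E.z * (k * E.x)⁻¹ = p := by
    rw [show (k * E.x) * E.z * (k * E.x)⁻¹ = k * (E.x * E.z * E.x⁻¹) * k⁻¹ by group, E.hzc _ E.xT,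
      mul_inv_cancel_right]
  have hqpT : q * p ∈ E.T := (E.T : Subgroup G).mul_mem hqT hk.mem
  have hqp2 : q * p * (q * p) = 1 := by rw [mul_assoc, ← mul_assoc p, ← hqp, mul_assoc q p, hp2, mul_one, hq2]
  -- the conjugates of `u` with partner `p`
  have fixp : ∀ a : G, a * E.z * a⁻¹ = p → ∀ r ∈ E.T, a * E.u * a⁻¹ * p = p * (a * E.u * a⁻¹) →
      r * (a * E.u * a⁻¹) = a * E.u * a⁻¹ * r → r * p = p * r := by
    intro a ha r hr hap hrv
    let X : Subgroup G := (E.T : Subgroup G) ⊓ centralizer ({a * E.u * a⁻¹} : Set G)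
    have h := (E.partner iso (rfl : a * E.u * a⁻¹ = a * E.u * a⁻¹) (X := X) (E.T.isPGroup'.to_le inf_le_left)
      (fun y hy => mem_centralizer_singleton_iff.1 hy.2)
      (by rw [ha]; exact ⟨hk.mem, mem_centralizer_singleton_iff.2 hap.symm⟩)).1 r
      ⟨hr, mem_centralizer_singleton_iff.2 hrv⟩
    rwa [ha] at h
  have notR : ∀ a : G, a * E.z * a⁻¹ = p → a * E.u * a⁻¹ ∈ E.T →
      a * E.u * a⁻¹ * p = p * (a * E.u * a⁻¹) → a * E.u * a⁻¹ ∉ E.R := by
    intro a ha haT hap haR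
    have h1 : a * E.u * a⁻¹ ≠ 1 := fun h => E.u1 (by simpa using h)
    have h2 : a * E.u * a⁻¹ * (a * E.u * a⁻¹) = 1 := by
      rw [show a * E.u * a⁻¹ * (a * E.u * a⁻¹) = a * (E.u * E.u) * a⁻¹ by group, E.u2]; group
    have hz : a * E.u * a⁻¹ ≠ E.z := fun h => hII ⟨a⁻¹, by
      rw [inv_inv]; nth_rw 1 [← h]; group⟩
    obtain ⟨b, hb, hbu⟩ := E.all_reach haR h2 h1 hz
    have hbz : b * E.z * b⁻¹ = E.z := by rw [mem_centralizer_singleton_iff.1 hb, mul_inv_cancel_right]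
    let X : Subgroup G := (E.T : Subgroup G) ⊓ centralizer ({a * E.u * a⁻¹} : Set G)
    have h := (E.partner iso hbu.symm (X := X) (E.T.isPGroup'.to_le inf_le_left)
      (fun y hy => mem_centralizer_singleton_iff.1 hy.2)
      (by rw [ha]; exact ⟨hk.mem, mem_centralizer_singleton_iff.2 hap.symm⟩)).2
      (by rw [hbz]; exact ⟨E.zT, mem_centralizer_singleton_iff.2 (E.hzc _ haT).symm⟩)
    rw [ha, hbz] at h
    exact hk.ne h.symm
  obtain ⟨f, hf⟩ := F.exists_rep hqT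
  obtain ⟨f', hf'⟩ := F.exists_rep hqpT
  obtain ⟨m, hm⟩ := F.exists_rep hk.mem
  have hqe' : q * (q * p) = p := by rw [← mul_assoc, hq2, one_mul]
  have hcomp : ∀ n < 32, apN f (apN f' n) = apN m n := fun n hn => by
    refine (hm.apply_eq hn (hf.lt (hf'.lt hn)) ?_).symm
    rw [← hf.mul hf' hn, hqe']
  have hpR : p ∉ E.R := fun h => hk.ne (E.zClass_R hII h)
  have hfin : isInner (apN f) = false :=
    Bool.eq_false_iff.2 fun h => notR k rfl hqT hqp (hf.mem_R hqT h)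
  have hfin' : isInner (apN f') = false := Bool.eq_false_iff.2 fun h =>
    notR (k * E.x) hkx (hqpx ▸ hqpT) (by rw [← hqpx, mul_assoc, hp2, mul_one, ← mul_assoc, ← hqp, mul_assoc, hp2,
      mul_one]) (hqpx ▸ hf'.mem_R hqpT h)
  have hmin : isInner (fun n => apN f (apN f' n)) = false := Bool.eq_false_iff.2 fun h =>
    hpR (hm.mem_R hk.mem (by rw [← h]; simp [isInner, gensN, hcomp]))
  have hpu : p * E.u = E.u * p := hup.symm
  have hfu : apN f 1 = 1 := hf.u_iff.2 huq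
  have hfu' : apN f' 1 = 1 := hf'.u_iff.2 (by rw [mul_assoc, hpu, ← mul_assoc, huq, mul_assoc])
  have hfix : (codes.all fun n => (!Nat.beq (apN f n) n || Nat.beq (apN f' n) n) &&
      (!Nat.beq (apN f' n) n || Nat.beq (apN f n) n)) = true := by
    refine List.all_eq_true.2 fun n hn => ?_
    rw [mem_codes] at hn
    simp only [Bool.and_eq_true, Bool.or_eq_true, Bool.not_eq_true', Bool.eq_false_iff, ne_eq, beq_iff,
      ← imp_iff_not_or]
    refine ⟨fun h => ?_, fun h => ?_⟩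
    · rw [hf.fix_iff hn] at h
      rw [hf'.fix_iff hn]
      have h1 := fixp k rfl _ (F.φ_T n) hqp h.symm
      rw [mul_assoc, ← h1, ← mul_assoc, h, mul_assoc]
    · rw [hf'.fix_iff hn] at h
      rw [hf.fix_iff hn]
      have hqpp : q * p * p = p * (q * p) := by rw [← mul_assoc p q p, ← hqp]
      have h1 := fixp (k * E.x) hkx _ (F.φ_T n) (by rw [← hqpx]; exact hqpp) (by rw [← hqpx]; exact h.symm)
      have e : q = q * p * p := by rw [mul_assoc, hp2, mul_one]
      rw [e, mul_assoc, ← h1, ← mul_assoc, h, mul_assoc]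
  have hbad : badPair F.e f f' = true := by
    unfold badPair
    rw [show isInvol f' = true from hf'.invol hqp2, hfin', hfu', beq_self, hf.comm hf' (by
      rw [← mul_assoc, hq2, one_mul, mul_assoc, ← hqp, ← mul_assoc, hq2, one_mul]), hmin, hfix]
    rfl
  have h := tab_all (pair_table F.e) hf.1
  simp only [show isInvol f = true from hf.invol hq2, hfin, hfu, beq_self, Bool.not_false, Bool.and_self,
    Bool.not_true, Bool.false_or] at h
  have h := tab_all h hf'.1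
  simp only [hbad, Bool.not_true, Bool.false_or] at h
  obtain ⟨j, hj, rfl⟩ := F.inU_code hi
  have h := tab_all h hj
  simp only [Bool.and_eq_true] at h
  obtain ⟨r, hr, hr'⟩ := tab_any h.1
  obtain ⟨s, hs, hs'⟩ := tab_any h.2
  rw [mem_codes] at hr hs
  have hj32 : j < 32 := by simp at hj; omega
  rw [beq_iff, hcomp r hr] at hr'
  rw [beq_iff] at hs'
  refine ⟨⟨(F.φ s)⁻¹ * k, ?_⟩, ⟨(F.φ r)⁻¹ * k, ?_⟩⟩
  · have e := hf.2 s hs
    rw [hs', F.φ_mul hs hj32] at e
    calc (F.φ s)⁻¹ * k * E.u * ((F.φ s)⁻¹ * k)⁻¹ = (F.φ s)⁻¹ * (q * F.φ s * q⁻¹) * q := by rw [hqd]; group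
      _ = _ := by rw [e, inv_mul_cancel_left]
  · have e := hm.2 r hr
    rw [hr', F.φ_mul hr hj32] at e
    calc (F.φ r)⁻¹ * k * E.z * ((F.φ r)⁻¹ * k)⁻¹ = (F.φ r)⁻¹ * (p * F.φ r * p⁻¹) * p := by rw [hpd]; group
      _ = _ := by rw [e, inv_mul_cancel_left]

theorem Pair.false {k : G} (hk : E.Pair k) : False := by
  obtain ⟨⟨g, hg⟩, -⟩ := Pair.translate hII iso hk (i := E.z) (Or.inr (Or.inl rfl))
  obtain ⟨-, g', hg'⟩ := Pair.translate hII iso (Pair.symm E hk) (E.inU_u)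
  rw [inv_inv] at hg'
  refine hII ⟨g⁻¹ * k * g', ?_⟩
  calc g⁻¹ * k * g' * E.z * (g⁻¹ * k * g')⁻¹ = g⁻¹ * (k * (g' * E.z * g'⁻¹) * k⁻¹) * g := by group
    _ = g⁻¹ * (k * E.u * k⁻¹ * E.z) * g := by rw [hg']; group
    _ = g⁻¹ * (g * E.u * g⁻¹) * g := by rw [hg, Pair.q_comm hII iso hk]
    _ = E.u := by group

/-- The configuration is impossible when `z` is not conjugate to `u`. -/
theorem false_two (hconj : ∃ g : G, g * E.z * g⁻¹ ∈ E.T ∧ g * E.z * g⁻¹ ≠ E.z) : False := by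
  classical
  let s : Set G := {p | p ∈ E.T ∧ p ≠ E.z ∧ ∃ g, g * E.z * g⁻¹ = p}
  let C : G → Subgroup G := fun p => (E.T : Subgroup G) ⊓ centralizer ({p} : Set G)
  obtain ⟨g0, h1, h2⟩ := hconj
  obtain ⟨p, ⟨hpT, hpz, g, rfl⟩, hmax⟩ := Set.exists_max_image s (fun p => Nat.card ↥(C p)) (Set.toFinite _)
    ⟨_, h1, h2, g0, rfl⟩
  let f : G →* G := (MulAut.conj g⁻¹).toMonoidHom
  have hf : ∀ y, f y = g⁻¹ * y * g := fun y => by simp [f]
  obtain ⟨c, hc, hcT⟩ := E.exists_into (D := (C (g * E.z * g⁻¹)).map f)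
    ((E.T.isPGroup'.to_le inf_le_left).map f) (by
      rintro _ ⟨y, hy, rfl⟩
      have := congrArg f (mem_centralizer_singleton_iff.1 hy.2)
      simp only [map_mul, hf] at this ⊢
      simpa [mul_assoc] using this)
  have hcz : c * E.z * c⁻¹ = E.z := by rw [mem_centralizer_singleton_iff.1 hc, mul_inv_cancel_right]
  have hcz' : c⁻¹ * E.z * c = E.z := by
    nth_rw 1 [← hcz]; group
  set k := g * c⁻¹ with hkd
  have hkp : k * E.z * k⁻¹ = g * E.z * g⁻¹ := by
    rw [hkd, show g * c⁻¹ * E.z * (g * c⁻¹)⁻¹ = g * (c⁻¹ * E.z * c) * g⁻¹ by group, hcz']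
  rw [← hkp] at hpT hpz hmax hcT
  have hle : ∀ a ∈ C (k * E.z * k⁻¹), k⁻¹ * a * k ∈ E.T := fun a ha => by
    have := hcT _ ⟨a, ha, rfl⟩
    rw [hf] at this
    rw [hkd]
    simpa [mul_assoc] using this
  let A : Subgroup G := (E.T : Subgroup G).map (MulAut.conj k).toMonoidHom ⊓ centralizer ({E.z} : Set G)
  have memA : ∀ a, a ∈ A ↔ k⁻¹ * a * k ∈ E.T ∧ a * E.z = E.z * a := fun a => by
    refine ⟨fun ⟨⟨y, hy, hye⟩, h⟩ => ⟨?_, mem_centralizer_singleton_iff.1 h⟩,
      fun ⟨h, h'⟩ => ⟨⟨_, h, by simp [mul_assoc]⟩, mem_centralizer_singleton_iff.2 h'⟩⟩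
    rw [← hye]; simpa [mul_assoc] using hy
  have hCA : C (k * E.z * k⁻¹) ≤ A := fun a ha => (memA a).2 ⟨hle a ha, E.hzc a ha.1⟩
  obtain ⟨d, hd, hdT⟩ := E.exists_into (D := A) ((E.T.isPGroup'.map _).to_le inf_le_left)
    (fun a ha => ((memA a).1 ha).2)
  have hpA : k * E.z * k⁻¹ ∈ A := (memA _).2 ⟨by simpa [mul_assoc] using E.zT, E.hzc _ hpT⟩
  have hdp : d * (k * E.z * k⁻¹) * d⁻¹ ∈ s := ⟨hdT _ hpA, fun h => hpz (by
    have hdz : d * E.z = E.z * d := mem_centralizer_singleton_iff.1 hd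
    calc k * E.z * k⁻¹ = d⁻¹ * (d * (k * E.z * k⁻¹) * d⁻¹) * d := by group
      _ = E.z := by rw [h, mul_assoc, ← hdz, inv_mul_cancel_left]), d * k, by group⟩
  have hcard : Nat.card ↥A ≤ Nat.card ↥(C (k * E.z * k⁻¹)) := by
    refine le_trans ?_ (hmax _ hdp)
    rw [← card_map_of_injective (K := A) (f := (MulAut.conj d).toMonoidHom) (MulAut.conj d).injective]
    refine card_le_of_le ?_
    rintro _ ⟨a, ha, rfl⟩
    refine ⟨by simpa using hdT a ha, mem_centralizer_singleton_iff.2 ?_⟩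
    obtain ⟨y, hy, rfl⟩ := ha.1
    have := congrArg (fun w => d * (k * w * k⁻¹) * d⁻¹) (E.hzc y hy)
    simpa [mul_assoc] using this
  have hEq : C (k * E.z * k⁻¹) = A := eq_of_le_of_card_ge hCA hcard
  refine Pair.false hII iso (k := k) ⟨hpT, hpz, fun a => ?_⟩
  rw [← memA, ← hEq]
  exact ⟨fun h => ⟨h.1, mem_centralizer_singleton_iff.2 h.2⟩,
    fun h => ⟨h.1, mem_centralizer_singleton_iff.1 h.2⟩⟩

end Extra

end Cfsg.Agent.Transfer.NoEightExtra
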