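import Cfsg.Agent.Lib.Transfer.NoEightExtra.One
import Cfsg.Agent.Lib.Transfer.NoEightExtra.Two

/-!
# The extraspecial configuration is impossible
-/

set_option autoImplicit false

namespace Cfsg.Agent.Transfer.NoEightExtra

open Subgroup

/-- Both cases: `z` conjugate to `u` inside the automizer of `C_T(u)`, or isolated in the centralizer of `u`. -/
theorem Extra.false {G : Type*} [Group G] [Finite G] (E : Extra G) (hG : ∀ H : Subgroup G, H.index ≠ 2)
    (hconj : ∃ g : G, g * E.z * g⁻¹ ∈ E.T ∧ g * E.z * g⁻¹ ≠ E.z)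
    (hsplit : (∃ h : G, h * E.z * h⁻¹ = E.u ∧ E.Pres h ∧ E.Pres h⁻¹) ∨
      ((¬ ∃ g : G, g * E.z * g⁻¹ = E.u) ∧
        ∀ k ∈ centralizer ({E.u} : Set G), ∀ X : Subgroup G, IsPGroup 2 ↥X → X ≤ centralizer ({E.u} : Set G) →
          E.z ∈ X → (∀ x ∈ X, x * E.z = E.z * x) ∧ (k * E.z * k⁻¹ ∈ X → k * E.z * k⁻¹ = E.z))) : False := by
  rcases hsplit with ⟨h, hh, hp, hp'⟩ | ⟨hII, iso⟩
  · exact E.false_one hh hp hp' hG
  · exact Extra.false_two hII iso hconj

end Cfsg.Agent.Transfer.NoEightExtra
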