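import Cfsg.Agent.Lib.Transfer.NoEightExtra.Shear
import Cfsg.Agent.Lib.Transfer.NoEightExtra.Two
import Cfsg.Agent.Lib.Transfer.NoEight.Xfer

/-!
# The case with fusion in the four-group

An involution inducing a transvection is not conjugate to `z`, and extremal transfer moves it to a shear, which no
conjugation can do.
-/

set_option autoImplicit false
set_option linter.style.haveILetI false
set_option linter.unusedSectionVars false
set_option maxRecDepth 100000

namespace Cfsg.Agent.Transfer.NoEightExtra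

open Subgroup

theorem coset_table : ∀ e : Bool, ((autos e).all fun f =>
    (!isT (apN f) || codes.all fun r => isT fun n => apN f (conjN e r n)) &&
    (!isInner (apN f) || isK (apN f))) = true := by
  decide +kernel

theorem good_congr {e : Bool} {f g : ℕ → ℕ} (h : ∀ n < 32, f n = g n) (hl : ∀ n < 32, g n < 32) :
    good e f = good e g := by
  have h1 : isId (fun n => f (f n)) = isId (fun n => g (g n)) := by
    have e : ∀ n < 32, f (f n) = g (g n) := fun n hn => by rw [h n hn, h _ (hl n hn)]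
    show (gensN.all fun n => Nat.beq (f (f n)) n) = gensN.all fun n => Nat.beq (g (g n)) n
    rw [Bool.eq_iff_iff, List.all_eq_true, List.all_eq_true]
    refine forall₂_congr fun n hn => ?_
    rw [e n (by simp [gensN] at hn; omega)]
  have h2 : hasPair e f = hasPair e g := by
    rw [Bool.eq_iff_iff]
    simp only [hasPair, List.any_eq_true, Bool.and_eq_true, beq_iff]
    constructor <;> rintro ⟨x, hx, hfx, y, hy, hfy, hc⟩ <;> refine ⟨x, hx, ?_, y, hy, ?_, hc⟩
    · rw [← h x (mem_codes.1 hx), hfx]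
    · rw [← h y (mem_codes.1 hy), hfy]
    · rw [h x (mem_codes.1 hx), hfx]
    · rw [h y (mem_codes.1 hy), hfy]
  rw [good, good, h1, h2]

namespace Extra

theorem eqG_of' {f g f' g' : ℕ → ℕ} (h : eqG f g = true) (hf : ∀ n < 32, f' n = f n) (hg : ∀ n < 32, g n = g' n) :
    eqG f' g' = true := by
  obtain ⟨a, b, c, d⟩ := eqG_spec h
  simp [eqG, gensN, hf, ← hg, a, b, c, d]

variable {G : Type*} [Group G] [Finite G] {E : Extra G}

/-- A commutator of `T` centralizes `u`. -/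
theorem comm_u {a b : G} (ha : a ∈ E.T) (hb : b ∈ E.T) :
    a * b * a⁻¹ * b⁻¹ * E.u = E.u * (a * b * a⁻¹ * b⁻¹) := by
  have hz2 : ∀ t ∈ E.T, t * (E.u * E.z) = t * E.u * E.z := fun t _ => (mul_assoc _ _ _).symm
  have hact : ∀ t ∈ E.T, ∃ i, (i = 1 ∨ i = E.z) ∧ t * E.u = E.u * i * t := fun t ht => by
    rcases E.hu t ht with h | h
    · exact ⟨1, Or.inl rfl, by rw [mul_one]; exact h⟩
    · exact ⟨E.z, Or.inr rfl, h⟩
  obtain ⟨i, hi, hia⟩ := hact a ha
  obtain ⟨j, hj, hjb⟩ := hact b hb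
  have hc : ∀ t ∈ E.T, ∀ k, (k = 1 ∨ k = E.z) → t * k = k * t := by
    rintro t ht k (rfl | rfl)
    · simp
    · exact E.hzc t ht
  have hij : i * j = j * i := by
    rcases hi with rfl | rfl <;> rcases hj with rfl | rfl <;> simp
  have h1 : a * b * E.u = E.u * (i * j) * (a * b) := by
    calc a * b * E.u = a * E.u * (j * b) := by rw [mul_assoc, hjb]; group
      _ = E.u * i * (a * j) * b := by rw [hia]; group
      _ = _ := by rw [hc a ha j hj]; group
  have h2 : b * a * E.u = E.u * (i * j) * (b * a) := by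
    calc b * a * E.u = b * E.u * (i * a) := by rw [mul_assoc, hia]; group
      _ = E.u * j * (b * i) * a := by rw [hjb]; group
      _ = _ := by rw [hc b hb i hi, hij]; group
  have e : a * b * a⁻¹ * b⁻¹ = (a * b) * (b * a)⁻¹ := by group
  rw [e]
  have h3 : (b * a)⁻¹ * (E.u * (i * j)) = E.u * (b * a)⁻¹ := by
    rw [inv_mul_eq_iff_eq_mul, ← mul_assoc (b * a), h2, mul_inv_cancel_right]
  calc a * b * (b * a)⁻¹ * E.u = a * b * ((b * a)⁻¹ * (E.u * (i * j))) * (i * j)⁻¹ := by group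
    _ = (a * b * E.u) * (b * a)⁻¹ * (i * j)⁻¹ := by rw [h3]; group
    _ = E.u * ((i * j) * (a * b * (b * a)⁻¹)) * (i * j)⁻¹ := by rw [h1]; group
    _ = _ := by
      have hm : a * b * (b * a)⁻¹ ∈ E.T :=
        (E.T : Subgroup G).mul_mem ((E.T : Subgroup G).mul_mem ha hb)
          ((E.T : Subgroup G).inv_mem ((E.T : Subgroup G).mul_mem hb ha))
      have hk : a * b * (b * a)⁻¹ * (i * j) = i * j * (a * b * (b * a)⁻¹) := by
        rw [← mul_assoc, hc _ hm i hi, mul_assoc, hc _ hm j hj, ← mul_assoc]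
      rw [← hk]; group

/-- A conjugate of `z` has a conjugating element carrying its centralizer in `T` back into `T`. -/
theorem exists_back {p g0 : G} (hp : g0 * E.z * g0⁻¹ = p) :
    ∃ g, g * E.z * g⁻¹ = p ∧ ∀ a ∈ E.T, a * p = p * a → g⁻¹ * a * g ∈ E.T := by
  let f : G →* G := (MulAut.conj g0⁻¹).toMonoidHom
  have hf : ∀ y, f y = g0⁻¹ * y * g0 := fun y => by simp [f]
  obtain ⟨c, hc, hcT⟩ := E.exists_into (D := ((E.T : Subgroup G) ⊓ centralizer ({p} : Set G)).map f)
    ((E.T.isPGroup'.to_le inf_le_left).map f) (by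
      rintro _ ⟨y, hy, rfl⟩
      have := congrArg f (mem_centralizer_singleton_iff.1 hy.2)
      rw [← hp] at this
      simp only [map_mul, hf] at this ⊢
      simpa [mul_assoc] using this)
  refine ⟨g0 * c⁻¹, ?_, fun a ha hap => ?_⟩
  · rw [show g0 * c⁻¹ * E.z * (g0 * c⁻¹)⁻¹ = g0 * (c⁻¹ * (E.z * c)) * g0⁻¹ by group,
      ← mem_centralizer_singleton_iff.1 hc, inv_mul_cancel_left, hp]
  · have := hcT _ ⟨a, ⟨ha, mem_centralizer_singleton_iff.2 hap⟩, rfl⟩
    rw [hf] at this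
    simpa [mul_assoc] using this

theorem vec_count_congr {e : Bool} (π : ℕ → ℕ) (hπ : ∀ n < 32, π n < 32)
    (hinj : ∀ a < 32, ∀ b < 32, π a = π b → a = b) (f f' : ℕ → ℕ)
    (h : ∀ n < 32, (Nat.beq (vecN (f' (π n))) (vecN (π n))) = Nat.beq (vecN (f n)) (vecN n)) (_ : mulN e 0 0 = 0) :
    (codes.filter fun n => Nat.beq (vecN (f' n)) (vecN n)).length =
      (codes.filter fun n => Nat.beq (vecN (f n)) (vecN n)).length := by
  have hp : List.Perm (codes.map π) codes := by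
    refine List.Subperm.perm_of_length_le (List.subperm_of_subset
      (List.Nodup.map_on (fun a ha b hb h => hinj a (mem_codes.1 ha) b (mem_codes.1 hb) h) (by decide)) fun x hx => ?_)
      (by rw [List.length_map])
    obtain ⟨a, ha, rfl⟩ := List.mem_map.1 hx
    exact mem_codes.2 (hπ a (mem_codes.1 ha))
  rw [← (hp.filter _).length_eq, List.filter_map, List.length_map]
  exact congrArg List.length (List.filter_congr fun x hx => h x (mem_codes.1 hx))

variable {F : E.Frame}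

/-- Conjugation in the centralizer of `z` preserves the transvections. -/
theorem isT_conj {k t : G} {f f' : ℕ} (hk : k ∈ centralizer ({E.z} : Set G)) (ht : t ∈ E.T)
    (ht' : k * t * k⁻¹ ∈ E.T) (hf : F.Rep t f) (hf' : F.Rep (k * t * k⁻¹) f') :
    isT (apN f') = isT (apN f) := by
  set K : ↥(centralizer ({E.z} : Set G)) := ⟨k, hk⟩
  have hconj : ∀ n < 32, apN f' (F.perm K n) = F.perm K (apN f n) := by
    intro n hn
    rw [← Frame.Rep.perm_eq F hf' ht' (F.perm_lt K n), ← Frame.Rep.perm_eq F hf ht hn, ← F.perm_comp,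
      ← F.perm_comp]
    congr 1
    refine Subtype.ext ?_
    show k * t * k⁻¹ * k = k * t
    group
  have h1 := tab_all (count_table F.e) hf.1
  have h2 := tab_all (count_table F.e) hf'.1
  rw [beq_iff_eq] at h1 h2
  rw [h1, h2, vec_count_congr (e := F.e) (F.perm K) (fun n _ => F.perm_lt K n)
    (fun a ha b hb h => F.perm_inj ha hb h) (apN f) (apN f') (fun n hn => ?_) (by cases F.e <;> decide +kernel)]
  rw [hconj n hn, Bool.eq_iff_iff, beq_iff, beq_iff, F.perm_congr (hf.lt hn) hn]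

variable (F)

/-- An involution inducing a transvection, with two elements of the same order centralized by it. -/
theorem Frame.exists_invol {t : G} {f : ℕ} (ht : t ∈ E.T) (hf : F.Rep t f) (hT : isT (apN f) = true) :
    ∃ e ∈ E.T, e * e = 1 ∧ ∃ a, F.Rep e a ∧ isT (apN a) = true ∧ ∃ x < 32, ∃ y < 32,
      apN a x = x ∧ apN a y = y ∧ commN F.e x y = false ∧ sq1N F.e x = sq1N F.e y := by
  have step : ∀ (t : G) (f : ℕ), t ∈ E.T → F.Rep t f → isT (apN f) = true → ∀ r < 32,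
      good F.e (fun n => apN f (conjN F.e r n)) = true → ∃ f', F.Rep (t * F.φ r) f' ∧ isT (apN f') = true ∧
        good F.e (apN f') = true := by
    intro t f ht hf hT r hr hg
    obtain ⟨f', hf'⟩ := F.exists_rep ((E.T : Subgroup G).mul_mem ht (F.φ_T r))
    have h := tab_all (coset_table F.e) hf.1
    simp only [hT, Bool.not_true, Bool.false_or, Bool.and_eq_true] at h
    have hc : ∀ n < 32, apN f' n = apN f (conjN F.e r n) := fun n hn => hf.conj_inner hr hf' hn
    refine ⟨f', hf', ?_, ?_⟩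
    · rw [isT_congr (eqG_of hc)]
      exact tab_all h.1 (mem_codes.2 hr)
    · rw [good_congr hc fun n hn => hf.lt (conjN_lt hr hn)]
      exact hg
  have h := tab_all (first_table F.e) hf.1
  simp only [hT, Bool.not_true, Bool.false_or] at h
  obtain ⟨r, hr, hr'⟩ := tab_any h
  rw [mem_codes] at hr
  obtain ⟨f1, hf1, hT1, hg1⟩ := step t f ht hf hT r hr hr'
  have ht1 : t * F.φ r ∈ E.T := (E.T : Subgroup G).mul_mem ht (F.φ_T r)
  have pairs : ∀ (e : G) (a : ℕ), F.Rep e a → isT (apN a) = true → good F.e (apN a) = true → ∃ x < 32, ∃ y < 32,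
      apN a x = x ∧ apN a y = y ∧ commN F.e x y = false ∧ sq1N F.e x = sq1N F.e y := by
    intro e a ha hT hg
    have h := tab_all (pair_kind_table F.e) ha.1
    simp only [hT, hg, Bool.and_self, Bool.not_true, Bool.false_or] at h
    obtain ⟨x, hx, hx'⟩ := tab_any h
    rw [Bool.and_eq_true, beq_iff] at hx'
    obtain ⟨y, hy, hy'⟩ := tab_any hx'.2
    simp only [Bool.and_eq_true, beq_iff, Bool.not_eq_true', beq_iff_eq] at hy'
    exact ⟨x, mem_codes.1 hx, y, mem_codes.1 hy, hx'.1, hy'.1.1, hy'.1.2, hy'.2⟩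
  have hsq : t * F.φ r * (t * F.φ r) = 1 ∨ t * F.φ r * (t * F.φ r) = E.z := by
    obtain ⟨k, hk⟩ := F.exists_rep ((E.T : Subgroup G).mul_mem ht1 ht1)
    refine hk.nontrivial ((E.T : Subgroup G).mul_mem ht1 ht1) ?_
    have h2 : isId (fun n => apN f1 (apN f1 n)) = true := by
      rw [good, Bool.and_eq_true] at hg1; exact hg1.1
    rw [← h2]
    simp [isId, eqG, gensN, hf1.comp hf1 hk]
  rcases hsq with h2 | h2
  · exact ⟨_, ht1, h2, f1, hf1, hT1, pairs _ _ hf1 hT1 hg1⟩
  set t1 := t * F.φ r with ht1d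
  have h := tab_all (flip_table F.e) hf1.1
  simp only [hT1, hg1, Bool.and_self, Bool.not_true, Bool.false_or] at h
  obtain ⟨s, hs, hs'⟩ := tab_any h
  rw [mem_codes] at hs
  rw [Bool.and_eq_true, beq_iff] at hs'
  obtain ⟨f2, hf2, hT2, hg2⟩ := step t1 f1 ht1 hf1 hT1 s hs hs'.2
  refine ⟨_, (E.T : Subgroup G).mul_mem ht1 (F.φ_T s), ?_, f2, hf2, hT2, pairs _ _ hf2 hT2 hg2⟩
  have e1 : F.φ (apN f1 s) * F.φ s = E.z := by rw [← F.φ_mul (hf1.lt hs) hs, hs'.1, F.φ_z]
  calc t1 * F.φ s * (t1 * F.φ s) = (t1 * F.φ s * t1⁻¹) * (t1 * t1) * F.φ s := by group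
    _ = F.φ (apN f1 s) * F.φ s * E.z := by
      rw [hf1.2 s hs, h2, mul_assoc, ← E.hzc _ (F.φ_T s), ← mul_assoc]
    _ = 1 := by rw [e1, E.z2]

variable {F}
variable {h : G} (hh : h * E.z * h⁻¹ = E.u) (hp : E.Pres h) (hp' : E.Pres h⁻¹)

include hh hp hp'

/-- An involution inducing a transvection is not conjugate to `z`. -/
theorem not_z {e : G} {a : ℕ} (he : e ∈ E.T) (he2 : e * e = 1) (ha : F.Rep e a) (hT : isT (apN a) = true)
    {x y : ℕ} (hx : x < 32) (hy : y < 32) (hax : apN a x = x) (hay : apN a y = y)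
    (hxy : commN F.e x y = false) : ¬ ∃ g : G, g * E.z * g⁻¹ = e := by
  rintro ⟨g0, hg0⟩
  obtain ⟨g, hg, hback⟩ := exists_back hg0
  have hrs : ¬ F.φ x * F.φ y = F.φ y * F.φ x := fun h => by
    rw [(F.commN_iff hx hy).2 h] at hxy
    exact absurd hxy (by decide)
  have hz : E.z = F.φ x * F.φ y * (F.φ x)⁻¹ * (F.φ y)⁻¹ :=
    ((E.R_comm _ (F.φ_mem x) _ (F.φ_mem y)).resolve_left fun h => hrs (by
      rwa [mul_inv_eq_one, mul_inv_eq_iff_eq_mul] at h)).symm
  have hre : F.φ x * e = e * F.φ x := ((ha.fix_iff hx).1 hax).symm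
  have hse : F.φ y * e = e * F.φ y := ((ha.fix_iff hy).1 hay).symm
  have hrT := hback _ (F.φ_T x) hre
  have hsT := hback _ (F.φ_T y) hse
  have hzT : g⁻¹ * E.z * g ∈ E.T := hback _ E.zT (E.hzc e he).symm
  have hzu : E.z * (g * E.u * g⁻¹) = g * E.u * g⁻¹ * E.z := by
    have h1 := comm_u hrT hsT
    have e1 : g⁻¹ * F.φ x * g * (g⁻¹ * F.φ y * g) * (g⁻¹ * F.φ x * g)⁻¹ * (g⁻¹ * F.φ y * g)⁻¹ = g⁻¹ * E.z * g := by
      rw [hz]; group
    rw [e1] at h1
    have := congrArg (fun w => g * w * g⁻¹) h1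
    simpa [mul_assoc] using this
  let D : Subgroup G := (E.T : Subgroup G).map (MulAut.conj g).toMonoidHom ⊓ centralizer ({E.z} : Set G)
  have memD : ∀ w, g⁻¹ * w * g ∈ E.T → w * E.z = E.z * w → w ∈ D := fun w h1 h2 =>
    ⟨⟨_, h1, by simp [mul_assoc]⟩, mem_centralizer_singleton_iff.2 h2⟩
  obtain ⟨c, hc, hcT⟩ := E.exists_into (D := D) ((E.T.isPGroup'.map _).to_le inf_le_left)
    (fun d hd => mem_centralizer_singleton_iff.1 hd.2)
  have heD : e ∈ D := memD e (by rw [← hg]; simpa [mul_assoc] using E.zT) (E.hzc e he)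
  have he'T := hcT e heD
  have hr'T := hcT _ (memD _ hrT (E.hzc _ (F.φ_T x)))
  have hs'T := hcT _ (memD _ hsT (E.hzc _ (F.φ_T y)))
  have hwT := hcT _ (memD (g * E.u * g⁻¹) (by simpa [mul_assoc] using E.uT) hzu.symm)
  obtain ⟨x', hx', hxe⟩ := F.surj (E.mem_R c hc _ (F.φ_mem x) hr'T)
  obtain ⟨y', hy', hye⟩ := F.surj (E.mem_R c hc _ (F.φ_mem y) hs'T)
  obtain ⟨a', ha'⟩ := F.exists_rep he'T
  obtain ⟨b, hb⟩ := F.exists_rep hwT
  set e' := c * e * c⁻¹ with he'd
  set w := c * (g * E.u * g⁻¹) * c⁻¹ with hwd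
  have hke : (c * g) * E.z * (c * g)⁻¹ = e' := by rw [he'd, ← hg]; group
  have hkw : (c * g) * E.u * (c * g)⁻¹ = w := by rw [hwd]; group
  have hT' : isT (apN a') = true := by rw [isT_conj hc he he'T ha ha', hT]
  have he'2 : e' * e' = 1 := by
    rw [he'd, show c * e * c⁻¹ * (c * e * c⁻¹) = c * (e * e) * c⁻¹ by group, he2]; group
  have hw2 : w * w = 1 := by
    rw [hwd, show c * (g * E.u * g⁻¹) * c⁻¹ * (c * (g * E.u * g⁻¹) * c⁻¹) = c * g * (E.u * E.u) * (c * g)⁻¹ by
      group, E.u2]; group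
  have hwe : w * e' = e' * w := by
    rw [← hke, ← hkw, show c * g * E.u * (c * g)⁻¹ * (c * g * E.z * (c * g)⁻¹) = c * g * (E.u * E.z) * (c * g)⁻¹ by
      group, E.zu]; group
  have hfx : apN a' x' = x' := (ha'.fix_iff hx').2 (by
    rw [hxe, he'd, show c * e * c⁻¹ * (c * F.φ x * c⁻¹) = c * (e * F.φ x) * c⁻¹ by group, ← hre]; group)
  have hfy : apN a' y' = y' := (ha'.fix_iff hy').2 (by
    rw [hye, he'd, show c * e * c⁻¹ * (c * F.φ y * c⁻¹) = c * (e * F.φ y) * c⁻¹ by group, ← hse]; group)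
  have hxy' : commN F.e x' y' = false := by
    rw [Bool.eq_false_iff, ne_eq, F.commN_iff hx' hy', hxe, hye]
    intro h
    refine hrs ?_
    have := congrArg (fun v => c⁻¹ * v * c) h
    simpa [mul_assoc] using this
  have heR : e' ∉ E.R := fun h => by
    have h1 := ha'.inner_of_mem h
    have h2 := tab_all (t_not_inner F.e) ha'.1
    rw [h1, Bool.and_true, Bool.not_eq_true'] at h2
    rw [isT] at hT'
    rw [h2] at hT'
    exact Bool.false_ne_true hT'
  have hcomm : ∀ n < 32, g⁻¹ * (c⁻¹ * F.φ n * c) * g ∈ E.T → w * F.φ n = F.φ n * w := by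
    intro n _ hnT
    rcases E.hu _ hnT with k | k
    · have := congrArg (fun v => (c * g) * v * (c * g)⁻¹) k
      rw [hwd]
      simpa [mul_assoc] using this.symm
    · exfalso
      refine heR ?_
      have e1 : F.φ n * w * (F.φ n)⁻¹ * w⁻¹ = e' := by
        have h1 := congrArg (fun v => (c * g) * v * (g⁻¹ * (c⁻¹ * F.φ n * c) * g)⁻¹ * (c * g)⁻¹) k
        have h2 : F.φ n * w * (F.φ n)⁻¹ = w * e' := by
          rw [← hke, ← hkw]
          simpa [mul_assoc] using h1
        rw [h2, hwe, mul_inv_cancel_right]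
      rw [← e1, show F.φ n * w * (F.φ n)⁻¹ * w⁻¹ = F.φ n * (w * (F.φ n)⁻¹ * w⁻¹) by group]
      exact E.R.mul_mem (F.φ_mem n) (E.R_normal w hwT _ (E.R.inv_mem (F.φ_mem n)))
  have hbx : apN b x' = x' := (hb.fix_iff hx').2 (hcomm x' hx' (by rw [hxe]; simpa [mul_assoc] using hrT))
  have hby : apN b y' = y' := (hb.fix_iff hy').2 (hcomm y' hy' (by rw [hye]; simpa [mul_assoc] using hsT))
  have hh' : h⁻¹ * E.z * h ≠ E.z := fun k => E.uz (by
    rw [← hh, show h * E.z * h⁻¹ = h * (h⁻¹ * E.z * h) * h⁻¹ by rw [k]]; group)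
  -- no conjugation takes `z` to `e'` and `u` to `z`
  have final : ∀ k : G, k * E.z * k⁻¹ = e' → k * E.u * k⁻¹ = E.z → False := by
    intro k k1 k2
    have hkh : k * h ∈ centralizer ({E.z} : Set G) := mem_centralizer_singleton_iff.2 (mul_inv_eq_iff_eq_mul.1 (by
      rw [show k * h * E.z * (k * h)⁻¹ = k * (h * E.z * h⁻¹) * k⁻¹ by group, hh, k2]))
    have hU := Pres.inU hp' (by rwa [inv_inv]) (a := E.z) (Or.inr (Or.inl rfl))
    rw [inv_inv] at hU
    refine heR ?_
    rw [← k1, show k * E.z * k⁻¹ = k * h * (h⁻¹ * E.z * h) * (k * h)⁻¹ by group]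
    refine E.mem_R _ hkh _ hU.mem ?_
    rw [show k * h * (h⁻¹ * E.z * h) * (k * h)⁻¹ = k * E.z * k⁻¹ by group, k1]
    exact he'T
  have innerBy_of : ∀ (v : G) (f : ℕ → ℕ), v ∈ E.R → v * v = 1 → v * e' = e' * v →
      (∀ n < 32, v * F.φ n * v⁻¹ = F.φ (f n)) → (∀ n < 32, f n < 32) → innerBy F.e a' f = true := by
    intro v f hv hv2 hve hv' hfl
    obtain ⟨n, hn, rfl⟩ := F.surj hv
    refine List.any_eq_true.2 ⟨n, mem_codes.2 hn, ?_⟩
    rw [Bool.and_eq_true, Bool.and_eq_true]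
    refine ⟨⟨beq_iff.2 ((ha'.fix_iff hn).2 hve.symm), (F.sq1N_iff hn).2 hv2⟩, eqG_of fun m hm => ?_⟩
    exact F.φ_inj (hfl m hm) (conjN_lt hn hm) (by rw [← hv' m hm, F.φ_conj hn hm])
  have h := tab_all (four_table F.e) ha'.1
  simp only [hT', show isInvol a' = true from ha'.invol he'2, Bool.and_self, Bool.not_true, Bool.false_or] at h
  have h := tab_all h (mem_codes.2 hx')
  simp only [hfx, beq_self, Bool.not_true, Bool.false_or] at h
  have h := tab_all h (mem_codes.2 hy')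
  simp only [hfy, beq_self, hxy', Bool.not_true, Bool.false_or] at h
  have h := tab_all h hb.1
  simp only [hbx, hby, beq_self, show isInvol b = true from hb.invol hw2, ha'.comm hb hwe.symm, Bool.not_true,
    Bool.false_or, Bool.or_eq_true, Bool.and_eq_true, Bool.not_eq_true'] at h
  rcases h with ((h | h) | h) | h
  · rcases hb.nontrivial hwT h with k | k
    · have hu1 : E.u = 1 := by
        have := congrArg (fun v => (c * g)⁻¹ * v * (c * g)) (hkw.trans k)
        simpa [mul_assoc] using this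
      exact E.u1 hu1
    · exact final _ hke (hkw.trans k)
  · rcases hb.eq_of ha' hwT he'T h with k | k
    · refine E.uz ?_
      have := congrArg (fun v => (c * g)⁻¹ * v * (c * g)) ((hkw.trans k).trans hke.symm)
      simpa [mul_assoc] using this
    · refine final (c * g * E.x) ?_ ?_
      · rw [show c * g * E.x * E.z * (c * g * E.x)⁻¹ = c * g * (E.x * E.z) * E.x⁻¹ * (c * g)⁻¹ by group,
          E.hzc _ E.xT, ← hke]; group
      · calc c * g * E.x * E.u * (c * g * E.x)⁻¹ = c * g * (E.x * E.u) * E.x⁻¹ * (c * g)⁻¹ := by group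
          _ = (c * g * E.u * (c * g)⁻¹) * (c * g * E.z * (c * g)⁻¹) := by rw [E.xu]; group
          _ = w * e' := by rw [hkw, hke]
          _ = e' * E.z * e' := by rw [k]
          _ = E.z := by rw [E.hzc e' he'T, mul_assoc, he'2, mul_one]
  · have := innerBy_of w (apN b) (hb.mem_R hwT h.1) hw2 hwe hb.2 fun n hn => hb.lt hn
    rw [this] at h
    exact absurd h.2 (by decide)
  · obtain ⟨k, hk⟩ := F.exists_rep ((E.T : Subgroup G).mul_mem he'T hwT)
    have hR := hk.mem_R ((E.T : Subgroup G).mul_mem he'T hwT) (by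
      rw [← h.1]; simp [isInner, gensN, ha'.comp hb hk])
    have := innerBy_of (e' * w) (fun n => apN a' (apN b n)) hR
      (by rw [mul_assoc, ← mul_assoc w, hwe, mul_assoc e' w w, hw2, mul_one, he'2])
      (by rw [mul_assoc, hwe]) (fun n hn => ha'.mul hb hn) fun n hn => ha'.lt (hb.lt hn)
    rw [this] at h
    exact absurd h.2 (by decide)

/-- A shear centralizing `u` stays a shear under `h⁻¹`. -/
theorem shear_conj {m : G} {f : ℕ} (hmT : m ∈ E.T) (hmu : m * E.u = E.u * m) (hf : F.Rep m f)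
    (hK : isK (apN f) = true) : h⁻¹ * m * h ∈ F.shears := by
  have hz : h * E.z * h⁻¹ ≠ E.z := hh ▸ E.uz
  have hz' : h⁻¹ * E.z * (h⁻¹)⁻¹ ≠ E.z := fun k => hz (by
    conv_lhs => rw [← k]
    group)
  obtain ⟨b, hb, hbm⟩ := Pres.factor F hp hp' hz hmT hmu hf hK
  have h1 : h⁻¹ * b * h ∈ F.shears := by
    obtain ⟨a, ha, rfl⟩ := hb
    have e : h⁻¹ * (MulAut.conj h).toMonoidHom a * h = a := by simp [mul_assoc]
    rw [e]
    refine ⟨E.R_le (E.mem_rad0.1 ha).1, fun k hk => ?_⟩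
    have h2 := tab_all (coset_table F.e) hk.1
    simp only [hk.inner_of_mem (E.mem_rad0.1 ha).1, Bool.not_true, Bool.false_or, Bool.and_eq_true] at h2
    exact h2.2
  have h2 : h⁻¹ * (b * m) * h ∈ F.shears := by
    have hmem : h⁻¹ * (b * m) * h ∈ E.rad0.map (MulAut.conj h⁻¹).toMonoidHom := ⟨_, hbm, by simp [mul_assoc]⟩
    exact ⟨(Pres.map_rad0 hp' hmem).1, fun k hk =>
      Pres.shear F hp' (by rwa [inv_inv]) hz' hmem hk⟩
  have := F.shears.mul_mem (F.shears.inv_mem h1) h2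
  rwa [show (h⁻¹ * b * h)⁻¹ * (h⁻¹ * (b * m) * h) = h⁻¹ * m * h by group] at this

/-- No element of the centralizer of `z` moves a transvection to a shear. -/
theorem center_false {k e : G} {a : ℕ} (hk : k * E.z * k⁻¹ = E.z) (he : e ∈ E.T) (ha : F.Rep e a)
    (hT : isT (apN a) = true) (hm : k * e * k⁻¹ ∈ F.shears) : False := by
  obtain ⟨f, hf⟩ := F.exists_rep hm.1
  have h1 := isT_conj (mem_centralizer_singleton_iff.2 (mul_inv_eq_iff_eq_mul.1 hk)) he hm.1 ha hf
  have h2 := tab_all (lab_table F.e) hf.1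
  simp only [h1, hT, hm.2 f hf, Bool.true_or, Bool.and_self, Bool.not_true, Bool.and_false] at h2
  exact Bool.false_ne_true h2

variable (E)

/-- The configuration is impossible when `z` is conjugate to `u`. -/
theorem false_one (hG : ∀ H : Subgroup G, H.index ≠ 2) : False := by
  obtain ⟨F⟩ := E.exists_frame
  have hz : h * E.z * h⁻¹ ≠ E.z := hh ▸ E.uz
  obtain ⟨t0, ht0, f0, hf0, hT0⟩ := Pres.exists_T F hp hp' hz
  obtain ⟨e, he, he2, a, ha, hT, x, hx, y, hy, hax, hay, hxy, hsq⟩ := F.exists_invol ht0 hf0 hT0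
  have hnz := not_z hh hp hp' he he2 ha hT hx hy hax hay hxy
  obtain ⟨g, hgM, hgC⟩ := NoEight.exists_extremal hG E.T F.shears F.shears_le (F.shears_index ha he hT) he
    fun g j _ => by
      rw [pow_succ', pow_mul, pow_two, he2, one_pow, mul_one, mul_inv_cancel]
      exact F.shears.one_mem
  obtain ⟨m, hmd⟩ : ∃ m, m = g * e * g⁻¹ := ⟨_, rfl⟩
  rw [← hmd] at hgM
  have hmT : m ∈ E.T := hgM.1
  have hm2 : m * m = 1 := by rw [hmd, show g * e * g⁻¹ * (g * e * g⁻¹) = g * (e * e) * g⁻¹ by group, he2]; group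
  -- the conjugate of `z` is not the conjugate of `e`, so `m` lies outside the extraspecial subgroup
  have hmR : m ∉ E.R := by
    intro hR
    by_cases h1 : m = 1
    · have h0 : e = 1 := by
        have := congrArg (fun v => g⁻¹ * v * g) (hmd.symm.trans h1)
        simpa [mul_assoc] using this
      subst h0
      have h4 : F.φ 0 = 1 := F.φ_zero
      have h2 := ha.inner_of_mem (h4 ▸ F.φ_mem 0)
      have h3 := tab_all (t_not_inner F.e) ha.1
      rw [h2, Bool.and_true, Bool.not_eq_true'] at h3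
      rw [isT, h3] at hT
      exact Bool.false_ne_true hT
    by_cases h2 : m = E.z
    · exact hnz ⟨g⁻¹, by rw [← h2, hmd]; group⟩
    obtain ⟨c, -, hc⟩ := E.all_reach hR hm2 h1 h2
    refine hnz ⟨g⁻¹ * c * h, ?_⟩
    rw [show g⁻¹ * c * h * E.z * (g⁻¹ * c * h)⁻¹ = g⁻¹ * (c * (h * E.z * h⁻¹) * c⁻¹) * g by group, hh, hc, hmd]
    group
  obtain ⟨f, hf⟩ := F.exists_rep hmT
  have hKm : isK (apN f) = true := hgM.2 f hf
  have him : isInvol f = true := hf.invol hm2
  have hIm : isInner (apN f) = false := Bool.eq_false_iff.2 fun k => hmR (hf.mem_R hmT k)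
  have hre : F.φ x * e = e * F.φ x := ((ha.fix_iff hx).1 hax).symm
  have hse : F.φ y * e = e * F.φ y := ((ha.fix_iff hy).1 hay).symm
  have hrs : ¬ F.φ x * F.φ y = F.φ y * F.φ x := fun h => by
    rw [(F.commN_iff hx hy).2 h] at hxy
    exact absurd hxy (by decide)
  have hzrs : F.φ x * F.φ y * (F.φ x)⁻¹ * (F.φ y)⁻¹ = E.z :=
    (E.R_comm _ (F.φ_mem x) _ (F.φ_mem y)).resolve_left fun h => hrs (by
      rwa [mul_inv_eq_one, mul_inv_eq_iff_eq_mul] at h)
  obtain ⟨a', ha'd⟩ : ∃ a', a' = g * F.φ x * g⁻¹ := ⟨_, rfl⟩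
  obtain ⟨b', hb'd⟩ : ∃ b', b' = g * F.φ y * g⁻¹ := ⟨_, rfl⟩
  obtain ⟨w, hwd⟩ : ∃ w, w = g * E.z * g⁻¹ := ⟨_, rfl⟩
  have ha'T : a' ∈ E.T := ha'd ▸ hgC _ (F.φ_T x) hre
  have hb'T : b' ∈ E.T := hb'd ▸ hgC _ (F.φ_T y) hse
  have hwT : w ∈ E.T := hwd ▸ hgC _ E.zT (E.hzc e he).symm
  have conjc : ∀ p q : G, p * q = q * p → g * p * g⁻¹ * (g * q * g⁻¹) = g * q * g⁻¹ * (g * p * g⁻¹) := fun p q h => by
    rw [show g * p * g⁻¹ * (g * q * g⁻¹) = g * (p * q) * g⁻¹ by group, h]; group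
  have ham : a' * m = m * a' := by rw [ha'd, hmd]; exact conjc _ _ hre
  have hbm : b' * m = m * b' := by rw [hb'd, hmd]; exact conjc _ _ hse
  have hwm : w * m = m * w := by rw [hwd, hmd]; exact conjc _ _ (E.hzc e he).symm
  have hw2 : w * w = 1 := by
    rw [hwd, show g * E.z * g⁻¹ * (g * E.z * g⁻¹) = g * (E.z * E.z) * g⁻¹ by group, E.z2]; group
  have hab : a' * b' * a'⁻¹ * b'⁻¹ = w := by rw [ha'd, hb'd, hwd, ← hzrs]; group
  -- the conjugating element does not centralize `z`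
  have hwz : w ≠ 1 ∧ w ≠ E.z := by
    refine ⟨fun k => E.z1 ?_, fun k => center_false hh hp hp' (hwd.symm.trans k) he ha hT (hmd ▸ hgM)⟩
    have := congrArg (fun v => g⁻¹ * v * g) (hwd.symm.trans k)
    simpa [mul_assoc] using this
  obtain ⟨fa, hfa⟩ := F.exists_rep ha'T
  obtain ⟨fb, hfb⟩ := F.exists_rep hb'T
  obtain ⟨fw, hfw⟩ := F.exists_rep hwT
  have h4 := hfa.comm hf ham
  have h5 := hfb.comm hf hbm
  rcases E.R_sq _ (F.φ_mem x) with hx2 | hx2
  swap
  · -- a quaternion pair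
    have hy2 : F.φ y * F.φ y = E.z := by
      refine (E.R_sq _ (F.φ_mem y)).resolve_left fun h => ?_
      have h1 := (F.sq1N_iff hy).2 h
      rw [← hsq, F.sq1N_iff hx, hx2] at h1
      exact E.z1 h1
    have ha2 : a' * a' = w := by
      rw [ha'd, hwd, ← hx2]; group
    have hb2 : b' * b' = w := by
      rw [hb'd, hwd, ← hy2]; group
    have hrel : a' * b' = a' * (a' * (b' * a')) := by
      have e1 : F.φ x * F.φ y = E.z * (F.φ y * F.φ x) := by rw [← hzrs]; group
      rw [ha'd, hb'd, show g * F.φ x * g⁻¹ * (g * F.φ y * g⁻¹) = g * (F.φ x * F.φ y) * g⁻¹ by group, e1, ← hx2]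
      group
    have hwid : ∀ n < 32, apN fa (apN fa n) = apN fw n := fun n hn => by
      refine (hfw.apply_eq hn (hfa.lt (hfa.lt hn)) ?_).symm
      rw [← hfa.mul hfa hn, ha2]
    have e4 : isId (fun n => apN fa (apN fa (apN fa (apN fa n)))) = true := isId_of fun n hn => by
      show apN fa (apN fa (apN fa (apN fa n))) = n
      rw [hwid n hn, hwid _ (hfw.lt hn)]
      refine F.φ_inj (hfw.lt (hfw.lt hn)) hn ?_
      rw [← hfw.mul hfw hn, hw2]; group
    have e5 : eqG (fun n => apN fb (apN fb n)) (fun n => apN fa (apN fa n)) = true := eqG_of fun n hn =>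
      F.φ_inj (hfb.lt (hfb.lt hn)) (hfa.lt (hfa.lt hn)) (by rw [← hfb.mul hfb hn, ← hfa.mul hfa hn, ha2, hb2])
    have e6 : eqG (fun n => apN fa (apN fb n)) (fun n => apN fa (apN fa (apN fb (apN fa n)))) = true :=
      eqG_of fun n hn => F.φ_inj (hfa.lt (hfb.lt hn)) (hfa.lt (hfa.lt (hfb.lt (hfa.lt hn)))) (by
        rw [← hfa.mul hfb hn, ← hfa.2 _ (hfa.lt (hfb.lt (hfa.lt hn))), ← hfa.2 _ (hfb.lt (hfa.lt hn)),
          ← hfb.mul hfa hn, hrel]
        group)
    have h1 := tab_all (quaternion_table F.e) hf.1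
    simp only [him, hKm, hIm, Bool.not_false, Bool.and_self, Bool.not_true, Bool.false_or] at h1
    have h1 := tab_all h1 hfa.1
    simp only [h4, e4, Bool.not_true, Bool.or_false, Bool.or_eq_true] at h1
    rcases h1 with h1 | h1
    · have h1' : isId (fun n => apN fa (apN fa n)) = true := h1
      have h2 : isId (apN fw) = true := by rw [← h1']; simp [isId, eqG, gensN, hwid]
      exact (hfw.nontrivial hwT h2).elim hwz.1 hwz.2
    · have h1 := tab_all h1 hfb.1
      simp [h5, e5, e6] at h1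
  -- a dihedral pair
  have hy2 : F.φ y * F.φ y = 1 := (F.sq1N_iff hy).1 (by rw [← hsq]; exact (F.sq1N_iff hx).2 hx2)
  have ha2 : a' * a' = 1 := by
    rw [ha'd, show g * F.φ x * g⁻¹ * (g * F.φ x * g⁻¹) = g * (F.φ x * F.φ x) * g⁻¹ by group, hx2]; group
  have hb2 : b' * b' = 1 := by
    rw [hb'd, show g * F.φ y * g⁻¹ * (g * F.φ y * g⁻¹) = g * (F.φ y * F.φ y) * g⁻¹ by group, hy2]; group
  have hw' : w = a' * b' * (a' * b') := by
    rw [← hab, inv_eq_of_mul_eq_one_right ha2, inv_eq_of_mul_eq_one_right hb2, mul_assoc (a' * b')]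
  have hcw : ∀ n < 32, commInv fa fb n = apN fw n := fun n hn => by
    refine (hfw.apply_eq hn (hfa.lt (hfb.lt (hfa.lt (hfb.lt hn)))) ?_).symm
    show _ = F.φ (apN fa (apN fb (apN fa (apN fb n))))
    rw [← hfa.mul hfb (hfa.lt (hfb.lt hn)), ← hfa.mul hfb hn, hw']
    group
  have h1 := tab_all (involution_table F.e) hf.1
  simp only [him, hKm, hIm, Bool.not_false, Bool.and_self, Bool.not_true, Bool.false_or] at h1
  have h1 := tab_all h1 hfa.1
  simp only [show isInvol fa = true from hfa.invol ha2, h4, Bool.and_self, Bool.not_true, Bool.false_or] at h1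
  have h1 := tab_all h1 hfb.1
  simp only [show isInvol fb = true from hfb.invol hb2, h5, Bool.and_self, Bool.not_true, Bool.false_or,
    Bool.or_eq_true] at h1
  rcases h1 with h1 | h1
  · have h2 : isId (apN fw) = true := by rw [← h1]; simp [isId, eqG, gensN, hcw]
    exact (hfw.nontrivial hwT h2).elim hwz.1 hwz.2
  rw [commCase, Bool.and_eq_true] at h1
  obtain ⟨r, hr, hr'⟩ := tab_any h1.1
  rw [mem_codes] at hr
  have hfix : ∀ v ∈ E.R, v * v = 1 → v * m = m * v → ∃ n < 32, F.φ n = v ∧ sq1N F.e n = true ∧ apN f n = n :=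
    fun v hv hv2 hvm => by
      obtain ⟨n, hn, rfl⟩ := F.surj hv
      exact ⟨n, hn, rfl, (F.sq1N_iff hn).2 hv2, (hf.fix_iff hn).2 hvm.symm⟩
  have hcases : w ∈ E.R ∨ w * m ∈ E.R := by
    rw [Bool.or_eq_true] at hr'
    rcases hr' with hr' | hr'
    · obtain ⟨k, hk⟩ := F.exists_rep (F.φ_T r)
      rcases hfw.eq_of hk hwT (F.φ_T r) (eqG_of' hr' (fun n hn => (hcw n hn).symm)
        (fun n hn => (Frame.rep_code hr hk hn).symm)) with q | q
      · exact Or.inl (q ▸ F.φ_mem r)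
      · exact Or.inl (q ▸ E.R.mul_mem (F.φ_mem r) E.zR)
    · obtain ⟨k, hk⟩ := F.exists_rep ((E.T : Subgroup G).mul_mem (F.φ_T r) hmT)
      rcases hfw.eq_of hk hwT ((E.T : Subgroup G).mul_mem (F.φ_T r) hmT) (eqG_of' hr'
        (fun n hn => (hcw n hn).symm) (fun n hn => (hk.apply_eq hn (conjN_lt hr (hf.lt hn)) (by
          rw [F.φ_conj hr (hf.lt hn), ← hf.2 n hn]; group)).symm)) with q | q
      · exact Or.inr (by rw [q, mul_assoc, hm2, mul_one]; exact F.φ_mem r)
      · refine Or.inr ?_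
        rw [q, mul_assoc _ E.z m, ← E.hzc m hmT, ← mul_assoc, mul_assoc (F.φ r) m m, hm2, mul_one]
        exact E.R.mul_mem (F.φ_mem r) E.zR
  rcases hcases with hwR | hwR
  · obtain ⟨n, hn, hne, hn2, hnf⟩ := hfix w hwR hw2 hwm
    have h2 := tab_all h1.2 (mem_codes.2 hn)
    have e1 : eqG (commInv fa fb) (conjN F.e n) = true := eqG_of fun i hi => by
      rw [hcw i hi, hfw.apply_eq hi (conjN_lt hn hi) (by rw [F.φ_conj hn hi, hne])]
    simp only [hn2, hnf, beq_self, e1, Bool.and_self, Bool.not_true, Bool.false_or, Bool.and_eq_true] at h2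
    obtain ⟨⟨hv, hm1⟩, -⟩ := h2
    have hmu : m * E.u = E.u * m := hf.u_iff.1 (beq_eq hm1)
    have hwu : w = E.u ∨ w = E.u * E.z := by
      rcases (F.vec_iff (show (1 : ℕ) < 32 by norm_num) hn).1 ((show vecN 1 = 1 from rfl).trans (beq_eq hv).symm)
        with q | q
      · exact Or.inl (by rw [← hne, q, F.φ_u])
      · exact Or.inr (by rw [← hne, q, F.φ_u])
    have key : ∀ g' : G, g' * E.z * g'⁻¹ = E.u → g' * e * g'⁻¹ ∈ F.shears →
        g' * e * g'⁻¹ * E.u = E.u * (g' * e * g'⁻¹) → False := by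
      intro g' k1 k2 k3
      obtain ⟨f', hf'⟩ := F.exists_rep k2.1
      have k4 := shear_conj hh hp hp' k2.1 k3 hf' (k2.2 f' hf')
      rw [show h⁻¹ * (g' * e * g'⁻¹) * h = h⁻¹ * g' * e * (h⁻¹ * g')⁻¹ by group] at k4
      refine center_false hh hp hp' ?_ he ha hT k4
      rw [show h⁻¹ * g' * E.z * (h⁻¹ * g')⁻¹ = h⁻¹ * (g' * E.z * g'⁻¹) * h by group, k1, ← hh]
      group
    rcases hwu with q | q
    · exact key g (hwd.symm.trans q) (hmd ▸ hgM) (hmd ▸ hmu)
    · refine key (E.x * g) ?_ ?_ ?_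
      · rw [show E.x * g * E.z * (E.x * g)⁻¹ = E.x * (g * E.z * g⁻¹) * E.x⁻¹ by group, ← hwd, q, ← mul_assoc,
          E.xu, mul_assoc (E.u * E.z), E.hzc _ E.xT, ← mul_assoc, mul_assoc E.u, E.z2, mul_one,
          mul_inv_cancel_right]
      all_goals rw [show E.x * g * e * (E.x * g)⁻¹ = E.x * m * E.x⁻¹ by rw [hmd]; group]
      · obtain ⟨k, hk⟩ := F.exists_rep E.xT
        refine ⟨(E.T : Subgroup G).mul_mem ((E.T : Subgroup G).mul_mem E.xT hmT)
          ((E.T : Subgroup G).inv_mem E.xT), fun k2 hk2 => ?_⟩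
        obtain ⟨k1, hk1⟩ := F.exists_rep ((E.T : Subgroup G).mul_mem E.xT hmT)
        obtain ⟨ki, hki⟩ := F.exists_rep ((E.T : Subgroup G).inv_mem E.xT)
        rw [hk1.kmul hki hk2, hk.kmul hf hk1, hk.kinv hki, hKm]
        cases isK (apN k) <;> rfl
      · have e : E.x * (E.u * E.z) * E.x⁻¹ = E.u := by
          rw [← mul_assoc, E.xu, mul_assoc (E.u * E.z), E.hzc _ E.xT, ← mul_assoc, mul_assoc E.u, E.z2, mul_one,
            mul_inv_cancel_right]
        have := congrArg (fun v => E.x * v * E.x⁻¹)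
          (show m * (E.u * E.z) = E.u * E.z * m by rw [← mul_assoc, hmu, mul_assoc, E.hzc m hmT, mul_assoc])
        calc E.x * m * E.x⁻¹ * E.u = E.x * m * E.x⁻¹ * (E.x * (E.u * E.z) * E.x⁻¹) := by rw [e]
          _ = E.x * (m * (E.u * E.z)) * E.x⁻¹ := by group
          _ = (E.x * (E.u * E.z) * E.x⁻¹) * (E.x * m * E.x⁻¹) := by rw [this]; group
          _ = _ := by rw [e]
  · have hm' : m * w * (m * w) = 1 := by
      rw [← hwm, mul_assoc, ← mul_assoc m, ← hwm, mul_assoc w m m, hm2, mul_one, hw2]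
    obtain ⟨n, hn, hne, hn2, hnf⟩ := hfix (w * m) hwR (by rw [hwm]; exact hm')
      (by rw [mul_assoc, ← mul_assoc m, ← hwm, mul_assoc])
    have h2 := tab_all h1.2 (mem_codes.2 hn)
    have hwn : w = F.φ n * m := by rw [hne, mul_assoc, hm2, mul_one]
    have e1 : eqG (commInv fa fb) (fun i => conjN F.e n (apN f i)) = true := eqG_of fun i hi => by
      rw [hcw i hi, hfw.apply_eq hi (conjN_lt hn (hf.lt hi)) (by
        rw [F.φ_conj hn (hf.lt hi), ← hf.2 i hi, hwn]; group)]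
    simp only [hn2, hnf, beq_self, e1, Bool.and_self, Bool.not_true, Bool.false_or, Bool.and_eq_true,
      Bool.or_eq_true, beq_iff] at h2
    rcases h2.2 with q | q
    · refine hnz ⟨1, ?_⟩
      have h3 : w = m := by rw [hwn, q, F.φ_zero, one_mul]
      have h4 : e = E.z := by
        have := congrArg (fun v => g⁻¹ * v * g) ((hmd.symm.trans h3.symm).trans hwd)
        simpa [mul_assoc] using this
      rw [h4]; group
    · obtain ⟨s, hs, hs'⟩ := tab_any q
      rw [mem_codes] at hs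
      rw [beq_iff] at hs'
      have e2 := hf.2 s hs
      rw [hs', F.φ_mul hs hn] at e2
      refine hnz ⟨g⁻¹ * F.φ s * g, ?_⟩
      calc g⁻¹ * F.φ s * g * E.z * (g⁻¹ * F.φ s * g)⁻¹ = g⁻¹ * (F.φ s * (g * E.z * g⁻¹) * (F.φ s)⁻¹) * g := by group
        _ = g⁻¹ * (F.φ s * F.φ n * m * (F.φ s)⁻¹) * g := by rw [← hwd, hwn]; group
        _ = g⁻¹ * (m * F.φ s * m⁻¹ * m * (F.φ s)⁻¹) * g := by rw [e2]
        _ = e := by rw [hmd]; group

end Extra

end Cfsg.Agent.Transfer.NoEightExtra
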