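import Cfsg.Agent.Lib.Transfer.NoEightExtra.Code

/-!
# Finite checks: sets of singular vectors invariant under the Sylow image
-/

set_option autoImplicit false
set_option maxRecDepth 100000

namespace Cfsg.Agent.Transfer.NoEightExtra

/-- The linear map with the given images of the generators. -/
def linV (a b c d n : ℕ) : ℕ :=
  Nat.xor (Nat.xor (bif Nat.testBit n 0 then a else 0) (bif Nat.testBit n 1 then b else 0))
    (Nat.xor (bif Nat.testBit n 2 then c else 0) (bif Nat.testBit n 3 then d else 0))

/-- The action of the first transvection on vectors. -/
def permT1 : ℕ → ℕ := linV 1 2 4 12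

/-- The action of the second transvection on vectors. -/
def permT2 : ℕ → ℕ := linV 1 7 4 13

/-- The actions of the elements of order four on vectors. -/
def permC (e : Bool) (b : Bool) : ℕ → ℕ :=
  bif e then (bif b then linV 1 11 5 13 else linV 1 15 5 12) else (bif b then linV 1 10 5 13 else linV 1 14 5 12)

/-- The singular vectors other than that of `u`. -/
def singN (e : Bool) : List ℕ :=
  (List.range 16).filter fun v => !Nat.beq v 0 && !Nat.beq v 1 && sq1N e v

/-- A set of vectors is invariant. -/
def invarS (p : ℕ → ℕ) (s : List ℕ) : Bool := s.all fun v => s.contains (p v)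

/-- The number of vectors of the set commuting with a given one. -/
def countS (e : Bool) (s : List ℕ) (x : ℕ) : ℕ := ((1 :: s).filter (commN e x)).length

/-- The vector of `u` is recognised by its count. -/
def uniqueU (e : Bool) (s : List ℕ) : Bool := s.all fun x => !Nat.beq (countS e s x) (countS e s 1)

/-- The sum of the set and the vector of `u`. -/
def sumS (s : List ℕ) : ℕ := (1 :: s).foldr Nat.xor 0

/-- The transvection with a given centre. -/
def transV (e : Bool) (w n : ℕ) : ℕ := bif commN e n w then n else Nat.xor n w

theorem perm_table : ∀ e : Bool, ((autos e).all fun f => codes.all fun n =>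
    (!isT1 (apN f) || Nat.beq (vecN (apN f n)) (permT1 (vecN n))) &&
    (!isT2 (apN f) || Nat.beq (vecN (apN f n)) (permT2 (vecN n))) &&
    (!isC e (apN f) || Nat.beq (vecN (apN f n)) (permC e true (vecN n)) ||
      Nat.beq (vecN (apN f n)) (permC e false (vecN n)))) = true := by
  decide +kernel

theorem perm_c_table : ∀ e : Bool, ((autos e).all fun f => !isC e (apN f) ||
    (codes.all fun n => Nat.beq (vecN (apN f n)) (permC e true (vecN n))) ||
    (codes.all fun n => Nat.beq (vecN (apN f n)) (permC e false (vecN n)))) = true := by
  decide +kernel

theorem orbit_t_table : ∀ e : Bool, ((singN e).sublists.all fun s => !(invarS permT1 s && invarS permT2 s) ||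
    s.isEmpty || (singN e).all (fun v => s.contains v) || uniqueU e s ||
    ((List.range 16).all fun n => Nat.beq (permT1 n) (transV e (sumS s) n)) ||
    ((List.range 16).all fun n => Nat.beq (permT2 n) (transV e (sumS s) n))) = true := by
  decide +kernel

theorem orbit_c_table : ∀ e b : Bool, ((singN e).sublists.all fun s => !invarS (permC e b) s ||
    s.isEmpty || (singN e).all (fun v => s.contains v) || uniqueU e s) = true := by
  decide +kernel

end Cfsg.Agent.Transfer.NoEightExtra
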