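import Cfsg.Agent.Lib.Transfer.NoEightExtra.Rep
import Cfsg.Agent.Lib.Transfer.NoEightExtra.Orbits

/-!
# The action of the Sylow 2-subgroup on the extraspecial subgroup and the class of `u`

The Sylow subgroup induces two transvections or an element of order four on the vectors, and the centralizer of `z`
is transitive on the involutions of the extraspecial subgroup other than `z`.
-/

set_option autoImplicit false
set_option linter.style.haveILetI false
set_option linter.unusedSectionVars false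
set_option maxRecDepth 100000

namespace Cfsg.Agent.Transfer.NoEightExtra

open Subgroup

theorem vecN_table : ∀ e : Bool, (codes.all fun a => decide (vecN a < 16) && Nat.beq (vecN (vecN a)) (vecN a) &&
    codes.all fun b => Nat.beq (vecN (mulN e a b)) (Nat.xor (vecN a) (vecN b)) &&
      (commN e a b == commN e (vecN a) (vecN b))) = true := by
  decide +kernel

theorem small_table : ∀ e : Bool, (!commN e 2 1 && !commN e (secondV e) 1 && sq1N e 2 && sq1N e (secondV e) &&
    Nat.beq (vecN 2) 2 && Nat.beq (vecN (secondV e)) (secondV e) && decide (secondV e < 32) &&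
    Nat.beq (mulN e 1 8) 9) = true := by
  decide +kernel

theorem kd_table : ∀ e : Bool, ((autos e).all fun f => !isK (apN f) ||
    [8, 9, 24, 25].contains (apN f 8)) = true := by
  decide +kernel

theorem t_not_inner : ∀ e : Bool, ((autos e).all fun f => !((isT1 (apN f) || isT2 (apN f)) &&
    isInner (apN f))) = true := by
  decide +kernel

theorem sing_table : ∀ e : Bool, (codes.all fun n => !(sq1N e n && !Nat.beq (vecN n) 0) ||
    Nat.beq (vecN n) 1 || (singN e).contains (vecN n)) = true ∧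
    ((singN e).all fun v => decide (v < 16) && !Nat.beq v 1) = true ∧ (singN e).Nodup ∧
    (codes.all fun n => !Nat.beq (vecN n) 1 || Nat.beq n 1 || Nat.beq n 17) = true := by
  decide +kernel

theorem countP_subtype {l : List ℕ} (p : ℕ → Bool) : (l.filter p).length = l.countP p :=
  List.countP_eq_length_filter.symm

variable {e : Bool}

theorem vecN_lt {a : ℕ} (ha : a < 32) : vecN a < 16 := by
  have h := tab_all (vecN_table false) (mem_codes.2 ha)
  simp only [Bool.and_eq_true, decide_eq_true_eq] at h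
  exact h.1.1

theorem vecN_mul {a b : ℕ} (ha : a < 32) (hb : b < 32) :
    vecN (mulN e a b) = Nat.xor (vecN a) (vecN b) ∧ commN e a b = commN e (vecN a) (vecN b) := by
  have h := tab_all (vecN_table e) (mem_codes.2 ha)
  simp only [Bool.and_eq_true] at h
  have h2 := tab_all h.2 (mem_codes.2 hb)
  simp only [Bool.and_eq_true, beq_iff_eq] at h2
  exact ⟨beq_eq h2.1, h2.2⟩

theorem vecN_idem {a : ℕ} (ha : a < 32) : vecN (vecN a) = vecN a := by
  have h := tab_all (vecN_table false) (mem_codes.2 ha)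
  simp only [Bool.and_eq_true] at h
  exact beq_eq h.1.2

theorem range_table : ((List.range 16).all fun a => Nat.beq (vecN a) a && decide (a < 32)) = true ∧
    (∀ e : Bool, (codes.all fun n => !Nat.beq (vecN n) 0 || Nat.beq n 0 || Nat.beq n 16) = true) := by
  decide +kernel

theorem vecN_of_lt {a : ℕ} (ha : a < 16) : vecN a = a :=
  beq_eq (Bool.and_eq_true_iff.1 (tab_all range_table.1 (List.mem_range.2 ha))).1

namespace Extra

variable {G : Type*} [Group G] [Finite G] {E : Extra G} (F : E.Frame)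

/-- Some element acts as a transvection of the first kind and some of the second, or one acts with order four. -/
def Frame.Gens : Prop :=
  (∃ t ∈ E.T, ∃ f, F.Rep t f ∧ isC F.e (apN f) = true) ∨
    ((∃ t ∈ E.T, ∃ f, F.Rep t f ∧ isT1 (apN f) = true) ∧ ∃ t ∈ E.T, ∃ f, F.Rep t f ∧ isT2 (apN f) = true)

/-- A singular vector fixed by all of `T` gives a second normal four-group. -/
theorem Frame.no_fixed {k : ℕ} (hk : k < 32) (hku : commN F.e k 1 = false) (hksq : sq1N F.e k = true)
    (h : ∀ t ∈ E.T, ∀ f, F.Rep t f → isInner (apN f) = true ∨ vecN (apN f k) = vecN k) : False := by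
  have hkT := F.φ_T k
  have hne : F.φ k * E.u ≠ E.u * F.φ k := fun r => by
    have := (F.commN_iff hk (show (1 : ℕ) < 32 by norm_num)).2 (by rw [F.φ_u]; exact r)
    rw [hku] at this; exact Bool.false_ne_true this
  have hU : ¬ E.InU (F.φ k) := fun h => hne (by
    rcases h with r | r | r | r <;> rw [r]
    · simp
    · exact (E.hzc _ E.uT).symm
    · rw [mul_assoc, ← E.zu])
  refine hU (E.oneFour _ hkT ((F.sq1N_iff hk).1 hksq) fun t ht => ?_)
  obtain ⟨f, hf⟩ := F.exists_rep ht
  rcases h t ht f hf with hi | hv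
  · rcases E.commute_or (hf.mem_R ht hi) (F.φ_mem k) with r | r
    · exact Or.inl (by rw [r, mul_inv_cancel_right])
    · refine Or.inr ?_
      rw [r, ← mul_assoc, mul_inv_cancel_right, E.hzc _ hkT]
  · rw [hf.2 k hk]
    exact (F.vec_iff hk (hf.lt hk)).1 hv.symm

/-- An involution outside the centralizer of `u` supplies a transvection fixing it, in the minus type. -/
theorem Frame.stab_gen (he : F.e = true) {k : ℕ} (hk : k < 32) (hku : commN F.e k 1 = false)
    (hksq : sq1N F.e k = true)
    (p : (ℕ → ℕ) → Bool) (htab : ∀ f ∈ autos F.e, isId (fun n => apN f (apN f n)) = true → apN f 1 = 1 →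
      apN f k = k → p (apN f) = true ∨ isInner (apN f) = true)
    (hcomm : ∀ n < 32, sq1N F.e n = true → commN F.e n 1 = true → commN F.e n k = true → vecN n = 0) :
    ∃ t ∈ E.T, ∃ f, F.Rep t f ∧ p (apN f) = true := by
  have hne : F.φ k * E.u ≠ E.u * F.φ k := fun r => by
    have := (F.commN_iff hk (show (1 : ℕ) < 32 by norm_num)).2 (by rw [F.φ_u]; exact r)
    rw [hku] at this; exact Bool.false_ne_true this
  obtain ⟨y, hyT, hyu, hyv, hy2, hy1, hyz⟩ := E.conn _ (F.φ_T k) ((F.sq1N_iff hk).1 hksq) hne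
  obtain ⟨f, hf⟩ := F.exists_rep hyT
  rcases htab f hf.1 (hf.invol hy2) (hf.u_iff.2 hyu) ((hf.fix_iff hk).2 hyv) with h | h
  · exact ⟨y, hyT, f, hf, h⟩
  · exfalso
    obtain ⟨n, hn, rfl⟩ := F.surj (hf.mem_R hyT h)
    have h0 := hcomm n hn ((F.sq1N_iff hn).2 hy2) ((F.commN_iff hn (by norm_num)).2 (by rw [F.φ_u]; exact hyu))
      ((F.commN_iff hn hk).2 hyv)
    rcases (F.vec_iff (show (0 : ℕ) < 32 by norm_num) hn).1 (show vecN 0 = vecN n by rw [h0]; rfl) with r | r
    · exact hy1 (r.trans F.φ_zero)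
    · exact hyz (by rw [r, F.φ_zero, one_mul])

theorem Frame.exists_gens : F.Gens := by
  have ts := small_table F.e
  simp only [Bool.and_eq_true, Bool.not_eq_true', decide_eq_true_eq] at ts
  obtain ⟨⟨⟨⟨⟨⟨⟨c2, cw⟩, s2⟩, sw⟩, v2⟩, vw⟩, hw⟩, h9⟩ := ts
  by_cases hC : ∃ t ∈ E.T, ∃ f, F.Rep t f ∧ isC F.e (apN f) = true
  · exact Or.inl hC
  refine Or.inr ?_
  push Not at hC
  have hst := stab_table F.e
  cases he : F.e with
  | true =>
    refine ⟨F.stab_gen he (show (2 : ℕ) < 32 by norm_num) c2 s2 isT1 (fun f hf h1 h2 h3 => ?_)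
      (fun n hn h1 h2 h3 => ?_), F.stab_gen he hw cw sw isT2 (fun f hf h1 h2 h3 => ?_) (fun n hn h1 h2 h3 => ?_)⟩
    · have h := tab_all hst.1 hf
      simp only [h1, h2, h3, beq_self, Bool.and_self, Bool.not_true, Bool.false_or, Bool.and_eq_true,
        Bool.or_eq_true] at h
      exact h.1
    · have h := tab_all hst.2 (mem_codes.2 hn)
      rw [he] at h h1 h2 h3
      simp only [h1, h2, h3, Bool.and_self, Bool.not_true, Bool.false_or, Bool.and_eq_true] at h
      exact beq_eq h.1
    · have h := tab_all hst.1 hf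
      simp only [h1, h2, h3, beq_self, Bool.and_self, Bool.not_true, Bool.false_or, Bool.and_eq_true,
        Bool.or_eq_true] at h
      exact h.2
    · have h := tab_all hst.2 (mem_codes.2 hn)
      rw [he] at h h1 h2 h3
      simp only [h1, h2, h3, Bool.and_self, Bool.not_true, Bool.false_or, Bool.and_eq_true] at h
      exact beq_eq h.2
  | false =>
    have hK : ∃ t ∈ E.T, ∃ f, F.Rep t f ∧ isK (apN f) = false := by
      by_contra hno
      push Not at hno
      have hd2 : F.d * F.d = 1 := by rw [F.basis.d2, he]; rfl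
      have hdU : ¬ E.InU F.d := fun h => by
        obtain ⟨i, hi, hie⟩ := F.inU_code h
        have h8 : i = 8 := F.φ_inj (by simp at hi; omega) (by norm_num) (by rw [hie, F.φ_d])
        subst h8
        simp at hi
      refine E.eight_false F.dR F.basis.du hd2 hdU fun t ht => ?_
      obtain ⟨f, hf⟩ := F.exists_rep ht
      have h := tab_all (kd_table F.e) hf.1
      have hk1 : isK (apN f) = true := by
        cases hk : isK (apN f) with
        | true => rfl
        | false => exact absurd hk (hno t ht f hf)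
      simp only [hk1, Bool.not_true, Bool.false_or, List.contains_iff_mem] at h
      have h3 := hf.2 8 (by norm_num)
      rw [F.φ_d] at h3
      rw [h3]
      have hd9 : F.φ 9 = E.u * F.d := by
        rw [← beq_eq h9, F.φ_mul (by norm_num) (by norm_num), F.φ_u, F.φ_d]
      have hz : ∀ n, n < 32 → F.φ (mulN F.e n 16) = F.φ n * E.z := fun n hn => by
        rw [F.φ_mul hn (by norm_num), F.φ_z]
      have h24 : F.φ 24 = F.d * E.z := by
        have e1 : mulN F.e 8 16 = 24 := by rw [he]; decide +kernel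
        rw [← e1, hz 8 (by norm_num), F.φ_d]
      have h25 : F.φ 25 = E.u * F.d * E.z := by
        have e1 : mulN F.e 9 16 = 25 := by rw [he]; decide +kernel
        rw [← e1, hz 9 (by norm_num), hd9]
      simp only [List.mem_cons, List.mem_nil_iff, or_false] at h
      rcases h with r | r | r | r <;> rw [r]
      · rw [F.φ_d, mul_inv_cancel]; exact Or.inl rfl
      · rw [hd9, mul_inv_cancel_right]; exact Or.inr (Or.inr (Or.inl rfl))
      · rw [h24, E.hzc _ (E.R_le F.dR), mul_inv_cancel_right]; exact Or.inr (Or.inl rfl)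
      · rw [h25, mul_assoc E.u F.d, E.hzc _ (E.R_le F.dR), ← mul_assoc, mul_inv_cancel_right]
        exact Or.inr (Or.inr (Or.inr rfl))
    obtain ⟨t0, ht0, f0, hf0, hk0⟩ := hK
    have hnonK : ∀ t ∈ E.T, ∀ f, F.Rep t f → isK (apN f) = false → isT1 (apN f) = true ∨ isT2 (apN f) = true := by
      intro t ht f hf hk
      have h := tab_all (type_table F.e) hf.1
      simp only [hk, Bool.false_or, Bool.and_eq_true, Bool.or_eq_true] at h
      exact h.1.1.1.resolve_right (hC t ht f hf)
    -- both transvections occur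
    have main : ∀ (p p' : (ℕ → ℕ) → Bool) (k : ℕ), k < 32 → commN F.e k 1 = false → sq1N F.e k = true →
        (∀ f g, eqG f g = true → p f = p g) →
        (∀ f ∈ autos F.e, p (apN f) = true → vecN (apN f k) = vecN k) →
        (∀ f ∈ autos F.e, ∀ g ∈ autos F.e, isK (apN f) = true → p (apN g) = true →
          p (fun n => apN f (apN g n)) = true → isInner (apN f) = true) →
        (∀ t ∈ E.T, ∀ f, F.Rep t f → isK (apN f) = false → p (apN f) = true ∨ p' (apN f) = true) →
        p (apN f0) = true → ∃ t ∈ E.T, ∃ f, F.Rep t f ∧ p' (apN f) = true := by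
      intro p p' k hk hku hksq hcongr hp hsingle hall hp0
      by_contra hno
      push Not at hno
      refine F.no_fixed hk hku hksq fun t ht f hf => ?_
      cases hkf : isK (apN f) with
      | false => exact Or.inr (hp f hf.1 ((hall t ht f hf hkf).resolve_right (hno t ht f hf)))
      | true =>
        refine Or.inl ?_
        obtain ⟨g, hg⟩ := F.exists_rep ((E.T : Subgroup G).mul_mem ht ht0)
        have hkc := tab_all (tab_all (kclosed_table F.e) hf.1) hf0.1
        rw [hkf, hk0] at hkc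
        have hcomp : ∀ n < 32, apN g n = apN f (apN f0 n) := fun n hn => hf.comp hf0 hg hn
        have hgk : isK (apN g) = false := by
          have : isK (apN g) = isK (fun n => apN f (apN f0 n)) := by simp [isK, hcomp]
          rw [this]
          simpa using hkc
        have hpg := (hall _ ((E.T : Subgroup G).mul_mem ht ht0) g hg hgk).resolve_right
          (hno _ ((E.T : Subgroup G).mul_mem ht ht0) g hg)
        refine hsingle f hf.1 f0 hf0.1 hkf hp0 ?_
        rw [← hcongr (apN g) _ (eqG_of hcomp)]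
        exact hpg
    have c1 : ∀ f g, eqG f g = true → isT1 f = isT1 g := fun f g h => by
      obtain ⟨a, b, c, d⟩ := eqG_spec h
      simp [isT1, hasVec, a, b, c, d]
    have c2' : ∀ f g, eqG f g = true → isT2 f = isT2 g := fun f g h => by
      obtain ⟨a, b, c, d⟩ := eqG_spec h
      simp [isT2, hasVec, a, b, c, d]
    have hsingle := fun f (hf : f ∈ autos F.e) g (hg : g ∈ autos F.e) (hk : isK (apN f) = true) => by
      have h := tab_all (tab_all (single_table F.e) hf) hg
      simp only [hk, Bool.not_true, Bool.false_or, Bool.and_eq_true, Bool.or_eq_true, Bool.not_eq_true'] at h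
      exact h
    have htt := fun f (hf : f ∈ autos F.e) => by
      have h := tab_all (type_table F.e) hf
      simp only [Bool.and_eq_true, Bool.or_eq_true, Bool.not_eq_true', beq_iff] at h
      exact h
    rcases hnonK t0 ht0 f0 hf0 hk0 with h0 | h0
    · refine ⟨⟨t0, ht0, f0, hf0, h0⟩, main isT1 isT2 2 (by norm_num) c2 s2 c1 (fun f hf h => ?_)
        (fun f hf g hg hk h h' => ?_) hnonK h0⟩
      · rw [(htt f hf).1.1.2.resolve_left (by simp [h]), beq_eq v2]
      · have := (hsingle f hf g hg hk).1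
        simpa [h, h'] using this
    · refine ⟨main isT2 isT1 (secondV F.e) hw cw sw c2' (fun f hf h => ?_) (fun f hf g hg hk h h' => ?_)
        (fun t ht f hf hk => (hnonK t ht f hf hk).symm) h0, ⟨t0, ht0, f0, hf0, h0⟩⟩
      · rw [(htt f hf).1.2.resolve_left (by simp [h]), beq_eq vw]
      · have := (hsingle f hf g hg hk).2
        simpa [h, h'] using this

/-- The permutation of the codes given by an element of the centralizer of `z`. -/
noncomputable def Frame.perm (c : ↥(centralizer ({E.z} : Set G))) (n : ℕ) : ℕ :=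
  (F.surj (E.act c ⟨F.φ n, F.φ_mem n⟩).2).choose

theorem Frame.perm_lt (c : ↥(centralizer ({E.z} : Set G))) (n : ℕ) : F.perm c n < 32 :=
  (F.surj (E.act c ⟨F.φ n, F.φ_mem n⟩).2).choose_spec.1

theorem Frame.φ_perm (c : ↥(centralizer ({E.z} : Set G))) (n : ℕ) :
    F.φ (F.perm c n) = ((E.act c ⟨F.φ n, F.φ_mem n⟩ : ↥E.R) : G) :=
  (F.surj (E.act c ⟨F.φ n, F.φ_mem n⟩).2).choose_spec.2

theorem Frame.perm_mul {c : ↥(centralizer ({E.z} : Set G))} {a b : ℕ} (ha : a < 32) (hb : b < 32) :
    F.perm c (mulN F.e a b) = mulN F.e (F.perm c a) (F.perm c b) := by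
  refine F.φ_inj (F.perm_lt c _) (mulN_lt (F.perm_lt c a) (F.perm_lt c b)) ?_
  rw [F.φ_mul (F.perm_lt c a) (F.perm_lt c b), F.φ_perm, F.φ_perm, F.φ_perm, ← Subgroup.coe_mul, ← map_mul]
  exact congrArg (fun r => ((E.act c r : ↥E.R) : G)) (Subtype.ext (F.φ_mul ha hb))

theorem Frame.perm_inj {c : ↥(centralizer ({E.z} : Set G))} {a b : ℕ} (ha : a < 32) (hb : b < 32)
    (h : F.perm c a = F.perm c b) : a = b := by
  refine F.φ_inj ha hb ?_
  have := congrArg F.φ h
  rw [F.φ_perm, F.φ_perm] at this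
  exact congrArg Subtype.val ((E.act c).injective (Subtype.ext this))

theorem Frame.perm_comp (c d : ↥(centralizer ({E.z} : Set G))) (n : ℕ) : F.perm (c * d) n = F.perm c (F.perm d n) := by
  refine F.φ_inj (F.perm_lt _ _) (F.perm_lt _ _) ?_
  rw [F.φ_perm, F.φ_perm, map_mul, MulAut.mul_apply]
  exact congrArg (fun r => ((E.act c r : ↥E.R) : G)) (Subtype.ext (F.φ_perm d n).symm)

theorem Frame.perm_one {n : ℕ} (hn : n < 32) : F.perm 1 n = n := by
  refine F.φ_inj (F.perm_lt _ _) hn ?_
  rw [F.φ_perm, map_one, MulAut.one_apply]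

theorem act_z (c : ↥(centralizer ({E.z} : Set G))) : ((E.act c ⟨E.z, E.zR⟩ : ↥E.R) : G) = E.z := by
  refine (E.R_center _ (E.act c ⟨E.z, E.zR⟩).2 fun s hs => ?_).resolve_left fun h => E.z1 ?_
  · obtain ⟨s', hs'⟩ := (E.act c).surjective ⟨s, hs⟩
    have e : (⟨E.z, E.zR⟩ : ↥E.R) * s' = s' * ⟨E.z, E.zR⟩ := Subtype.ext (E.hzc _ (E.R_le s'.2)).symm
    have := congrArg (fun r => ((E.act c r : ↥E.R) : G)) e
    simp only [map_mul, hs', Subgroup.coe_mul] at this
    exact this
  · have h1 : E.act c ⟨E.z, E.zR⟩ = E.act c 1 := by rw [map_one]; exact Subtype.ext h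
    exact congrArg Subtype.val ((E.act c).injective h1)

theorem Frame.perm_zero (c : ↥(centralizer ({E.z} : Set G))) : F.perm c 0 = 0 ∧ F.perm c 16 = 16 := by
  constructor
  · refine F.φ_inj (F.perm_lt _ _) (by norm_num) ?_
    rw [F.φ_perm, show (⟨F.φ 0, F.φ_mem 0⟩ : ↥E.R) = 1 from Subtype.ext F.φ_zero, map_one, Subgroup.coe_one,
      F.φ_zero]
  · refine F.φ_inj (F.perm_lt _ _) (by norm_num) ?_
    rw [F.φ_perm, show (⟨F.φ 16, F.φ_mem 16⟩ : ↥E.R) = ⟨E.z, E.zR⟩ from Subtype.ext F.φ_z, act_z, F.φ_z]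

theorem Frame.perm_comm {c : ↥(centralizer ({E.z} : Set G))} {a b : ℕ} (ha : a < 32) (hb : b < 32) :
    commN F.e (F.perm c a) (F.perm c b) = commN F.e a b := by
  rw [Bool.eq_iff_iff, commN, commN, beq_iff, beq_iff, ← F.perm_mul ha hb, ← F.perm_mul hb ha]
  exact ⟨F.perm_inj (mulN_lt ha hb) (mulN_lt hb ha), fun h => by rw [h]⟩

theorem Frame.perm_sq {c : ↥(centralizer ({E.z} : Set G))} {a : ℕ} (ha : a < 32) :
    sq1N F.e (F.perm c a) = sq1N F.e a := by
  rw [Bool.eq_iff_iff, sq1N, sq1N, beq_iff, beq_iff, ← F.perm_mul ha ha]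
  exact ⟨fun h => F.perm_inj (mulN_lt ha ha) (by norm_num) (h.trans (F.perm_zero c).1.symm),
    fun h => by rw [h, (F.perm_zero c).1]⟩

theorem Frame.perm_congr {c : ↥(centralizer ({E.z} : Set G))} {a b : ℕ} (ha : a < 32) (hb : b < 32) :
    vecN (F.perm c a) = vecN (F.perm c b) ↔ vecN a = vecN b := by
  have key : ∀ (c : ↥(centralizer ({E.z} : Set G))) {a b : ℕ}, a < 32 → b < 32 → vecN a = vecN b →
      vecN (F.perm c a) = vecN (F.perm c b) := by
    intro c a b ha hb h
    rw [F.vec_iff ha hb, ← F.φ_z, ← F.φ_mul ha (by norm_num), F.eq_iff hb ha,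
      F.eq_iff hb (mulN_lt ha (by norm_num))] at h
    rw [F.vec_iff (F.perm_lt c a) (F.perm_lt c b), ← F.φ_z, ← F.φ_mul (F.perm_lt c a) (by norm_num),
      F.eq_iff (F.perm_lt c b) (F.perm_lt c a),
      F.eq_iff (F.perm_lt c b) (mulN_lt (F.perm_lt c a) (by norm_num)), ← (F.perm_zero c).2,
      ← F.perm_mul ha (by norm_num)]
    rcases h with h | h <;> rw [h]
    · exact Or.inl rfl
    · exact Or.inr rfl
  refine ⟨fun h => ?_, key c ha hb⟩
  have h2 := key c⁻¹ (F.perm_lt c a) (F.perm_lt c b) h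
  rwa [← F.perm_comp, ← F.perm_comp, inv_mul_cancel, F.perm_one ha, F.perm_one hb] at h2

/-- The action on vectors. -/
noncomputable def Frame.pv (c : ↥(centralizer ({E.z} : Set G))) (v : ℕ) : ℕ := vecN (F.perm c v)

theorem Frame.pv_vec (c : ↥(centralizer ({E.z} : Set G))) {n : ℕ} (hn : n < 32) :
    F.pv c (vecN n) = vecN (F.perm c n) :=
  (F.perm_congr (by have := vecN_lt hn; omega) hn).2 (vecN_idem hn)

theorem Frame.pv_lt (c : ↥(centralizer ({E.z} : Set G))) (v : ℕ) : F.pv c v < 16 := vecN_lt (F.perm_lt c v)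

theorem Frame.pv_inj (c : ↥(centralizer ({E.z} : Set G))) {a b : ℕ} (ha : a < 16) (hb : b < 16)
    (h : F.pv c a = F.pv c b) : a = b := by
  rwa [Frame.pv, Frame.pv, F.perm_congr (by omega) (by omega), vecN_of_lt ha, vecN_of_lt hb] at h

theorem Frame.pv_comp (c d : ↥(centralizer ({E.z} : Set G))) (v : ℕ) : F.pv (c * d) v = F.pv c (F.pv d v) := by
  show vecN _ = F.pv c (vecN _)
  rw [F.pv_vec c (F.perm_lt d v), F.perm_comp]

theorem Frame.pv_one {v : ℕ} (hv : v < 16) : F.pv 1 v = v := by
  rw [Frame.pv, F.perm_one (by omega), vecN_of_lt hv]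

theorem Frame.pv_xor (c : ↥(centralizer ({E.z} : Set G))) {a b : ℕ} (ha : a < 16) (hb : b < 16) :
    F.pv c (Nat.xor a b) = Nat.xor (F.pv c a) (F.pv c b) := by
  have h := (vecN_mul (e := F.e) (show a < 32 by omega) (show b < 32 by omega)).1
  rw [vecN_of_lt ha, vecN_of_lt hb] at h
  rw [← h, F.pv_vec c (mulN_lt (by omega) (by omega)), F.perm_mul (by omega) (by omega),
    (vecN_mul (F.perm_lt c a) (F.perm_lt c b)).1]
  rfl

theorem Frame.pv_comm (c : ↥(centralizer ({E.z} : Set G))) {a b : ℕ} (ha : a < 16) (hb : b < 16) :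
    commN F.e (F.pv c a) (F.pv c b) = commN F.e a b := by
  rw [Frame.pv, Frame.pv, ← (vecN_mul (F.perm_lt c a) (F.perm_lt c b)).2, F.perm_comm (by omega) (by omega)]

theorem Frame.pv_foldr (c : ↥(centralizer ({E.z} : Set G))) (L : List ℕ) (h : ∀ x ∈ L, x < 16) :
    L.foldr Nat.xor 0 < 16 ∧ F.pv c (L.foldr Nat.xor 0) = (L.map (F.pv c)).foldr Nat.xor 0 := by
  induction L with
  | nil =>
    refine ⟨by simp, ?_⟩
    show vecN (F.perm c 0) = 0
    rw [(F.perm_zero c).1]; rfl
  | cons a L ih =>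
    obtain ⟨h1, h2⟩ := ih fun x hx => h x (List.mem_cons_of_mem a hx)
    have ha := h a List.mem_cons_self
    refine ⟨Nat.xor_lt_two_pow (n := 4) ha h1, ?_⟩
    rw [List.foldr_cons, F.pv_xor c ha h1, h2, List.map_cons, List.foldr_cons]

/-- An element of `T` as an element of the centralizer of `z`. -/
def cmk {t : G} (ht : t ∈ E.T) : ↥(centralizer ({E.z} : Set G)) :=
  ⟨t, mem_centralizer_singleton_iff.2 (E.hzc t ht)⟩

theorem Frame.Rep.perm_eq {t : G} {f n : ℕ} (h : F.Rep t f) (ht : t ∈ E.T) (hn : n < 32) :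
    F.perm (cmk ht) n = apN f n := by
  refine F.φ_inj (F.perm_lt _ _) (h.lt hn) ?_
  rw [F.φ_perm, ← h.2 n hn]
  exact E.act_T _ _ ht

theorem Frame.pv_T {t : G} {f : ℕ} (h : F.Rep t f) (ht : t ∈ E.T) {n : ℕ} (hn : n < 32) :
    F.pv (cmk ht) (vecN n) = vecN (apN f n) := by
  rw [F.pv_vec _ hn, Frame.Rep.perm_eq F h ht hn]

/-- A vector in the orbit of `u`. -/
def Frame.Reach (v : ℕ) : Prop := ∃ c : ↥(centralizer ({E.z} : Set G)), F.pv c 1 = v

theorem Frame.reach_sing {v : ℕ} (h : F.Reach v) : v = 1 ∨ v ∈ singN F.e := by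
  obtain ⟨c, rfl⟩ := h
  have h1 : sq1N F.e (F.perm c 1) = true := by
    rw [F.perm_sq (by norm_num)]
    cases F.e <;> decide +kernel
  have h0 : Nat.beq (F.pv c 1) 0 = false := by
    rw [Bool.eq_false_iff, ne_eq, beq_iff]
    intro h
    have h2 : vecN (F.perm c 1) = vecN (F.perm c 0) := by rw [(F.perm_zero c).1]; exact h
    exact absurd ((F.perm_congr (by norm_num) (by norm_num)).1 h2) (by decide)
  have h := tab_all (sing_table F.e).1 (mem_codes.2 (F.perm_lt c 1))
  rw [Frame.pv] at h0 ⊢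
  simp only [h1, h0, Bool.not_false, Bool.and_self, Bool.not_true, Bool.false_or, Bool.or_eq_true, beq_iff,
    List.contains_iff_mem] at h
  exact h

theorem Frame.all_vec : ∀ v ∈ singN F.e, F.Reach v := by
  classical
  have hlt : ∀ x ∈ singN F.e, x < 16 ∧ x ≠ 1 := fun x hx => by
    have h := tab_all (sing_table F.e).2.1 hx
    simp only [Bool.and_eq_true, decide_eq_true_eq, Bool.not_eq_true'] at h
    exact ⟨h.1, fun r => by rw [r] at h; exact absurd h.2 (by decide)⟩
  set s := (singN F.e).filter (fun v => decide (F.Reach v)) with hs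
  have hsub : s ∈ (singN F.e).sublists := List.mem_sublists.2 List.filter_sublist
  have hmem : ∀ {v}, v ∈ s ↔ v ∈ singN F.e ∧ F.Reach v := fun {v} => by simp [hs]
  have hinv : ∀ {v}, v ∈ s → ∀ c, F.Reach (F.pv c v) := by
    intro v hv c
    obtain ⟨d, rfl⟩ := (hmem.1 hv).2
    exact ⟨c * d, F.pv_comp c d 1⟩
  set L := 1 :: s
  have hL : ∀ x ∈ L, x < 16 ∧ F.Reach x := by
    intro x hx
    rcases List.mem_cons.1 hx with rfl | hx
    · exact ⟨by norm_num, 1, F.pv_one (by norm_num)⟩
    · exact ⟨(hlt x (hmem.1 hx).1).1, (hmem.1 hx).2⟩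
  have hLnd : L.Nodup := List.nodup_cons.2 ⟨fun h => (hlt 1 (hmem.1 h).1).2 rfl, (sing_table F.e).2.2.1.filter _⟩
  have hperm : ∀ c, List.Perm (L.map (F.pv c)) L := by
    intro c
    refine List.Subperm.perm_of_length_le (List.subperm_of_subset
      (List.Nodup.map_on (fun a ha b hb h => F.pv_inj c (hL a ha).1 (hL b hb).1 h) hLnd) fun x hx => ?_)
      (by rw [List.length_map])
    obtain ⟨a, ha, rfl⟩ := List.mem_map.1 hx
    have hr : F.Reach (F.pv c a) := by
      rcases List.mem_cons.1 ha with rfl | ha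
      · exact ⟨c, rfl⟩
      · exact hinv ha c
    rcases F.reach_sing hr with h | h
    · rw [h]; exact List.mem_cons_self
    · exact List.mem_cons_of_mem _ (hmem.2 ⟨h, hr⟩)
  obtain ⟨c0, hc0⟩ := E.moveU
  have hv0 : F.pv c0 1 ∈ s := by
    rcases F.reach_sing (v := F.pv c0 1) ⟨c0, rfl⟩ with h | h
    · exfalso
      apply hc0
      have h1 := (F.vec_iff (show (1 : ℕ) < 32 by norm_num) (F.perm_lt c0 1)).1
        ((show vecN 1 = 1 from rfl).trans h.symm)
      rw [F.φ_perm, show (⟨F.φ 1, F.φ_mem 1⟩ : ↥E.R) = ⟨E.u, E.uR⟩ from Subtype.ext F.φ_u, F.φ_u] at h1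
      exact Or.inr (Or.inr h1)
    · exact hmem.2 ⟨h, c0, rfl⟩
  have hne : s.isEmpty = false := by
    cases hb : s.isEmpty
    · rfl
    · rw [List.isEmpty_iff] at hb; rw [hb] at hv0; simp at hv0
  have huniq : uniqueU F.e s = false := by
    rw [Bool.eq_false_iff]
    intro hu
    have h := tab_all hu hv0
    rw [Bool.not_eq_true', Bool.eq_false_iff, ne_eq, beq_iff] at h
    apply h
    unfold countS
    rw [← ((hperm c0).filter _).length_eq, List.filter_map, List.length_map]
    refine congrArg List.length (List.filter_congr fun x hx => ?_)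
    exact F.pv_comm c0 (by norm_num) (hL x hx).1
  have hsum : ∀ c, F.pv c (sumS s) = sumS s := by
    intro c
    show F.pv c (L.foldr Nat.xor 0) = L.foldr Nat.xor 0
    rw [(F.pv_foldr c L fun x hx => (hL x hx).1).2]
    exact List.Perm.foldr_eq' (hperm c) (fun a _ b _ z => by
      show Nat.xor b (Nat.xor a z) = Nat.xor a (Nat.xor b z)
      show b ^^^ (a ^^^ z) = a ^^^ (b ^^^ z)
      rw [← Nat.xor_assoc, ← Nat.xor_assoc, Nat.xor_comm b a]) 0
  have hσ : sumS s < 16 := (F.pv_foldr 1 L fun x hx => (hL x hx).1).1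
  -- the Sylow image preserves the set
  have hinvar : ∀ (t : G) (ht : t ∈ E.T) (f : ℕ), F.Rep t f → ∀ p : ℕ → ℕ,
      (∀ n < 32, vecN (apN f n) = p (vecN n)) → invarS p s = true := by
    intro t ht f hf p hp
    refine List.all_eq_true.2 fun v hv => ?_
    have hv' := hlt v (hmem.1 hv).1
    have e : F.pv (cmk ht) v = p v := by
      rw [← vecN_of_lt hv'.1, F.pv_T hf ht (by omega), hp v (by omega)]
    have hr : F.Reach (p v) := e ▸ hinv hv (cmk ht)
    rw [List.contains_iff_mem]
    refine hmem.2 ⟨(F.reach_sing hr).resolve_left fun h1 => hv'.2 ?_, hr⟩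
    have e1 : F.pv (cmk ht) 1 = 1 := by
      rw [← vecN_of_lt (show 1 < 16 by norm_num), F.pv_T hf ht (by norm_num)]
      rcases E.hu t ht with k | k
      · rw [hf.u_iff.2 k]
      · rw [hf.apply_eq (by norm_num) (show 17 < 32 by norm_num)
          (by rw [F.φ_u, k, mul_inv_cancel_right, F.φ_uz])]
        rfl
    exact F.pv_inj _ hv'.1 (by norm_num) (e.trans (h1.trans e1.symm))
  -- a transvection given by the sum commutes with the centralizer of `z`
  have hcase : ∀ (t : G) (_ : t ∈ E.T) (f : ℕ), F.Rep t f → (isT1 (apN f) = true ∨ isT2 (apN f) = true) →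
      (∀ n < 32, vecN (apN f n) = transV F.e (sumS s) (vecN n)) → False := by
    intro t ht f hf hty htr
    have htR : t ∉ E.R := fun h => by
      have h1 := tab_all (t_not_inner F.e) hf.1
      have h2 := hf.inner_of_mem h
      rcases hty with k | k <;> simp [h2, k] at h1
    obtain ⟨c, ⟨r, hr⟩, ⟨s', hs'⟩, hrs, hmove⟩ := E.moves t ht htR
    obtain ⟨n, hn, rfl⟩ := F.surj hr
    obtain rfl : s' = F.φ (apN f n) := by rw [← hf.2 n hn]; exact hrs
    apply hmove
    rw [← F.φ_perm c n, ← F.φ_perm c (apN f n), hf.2 _ (F.perm_lt c n)]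
    refine (F.vec_iff (hf.lt (F.perm_lt c n)) (F.perm_lt c _)).1 ?_
    rw [htr _ (F.perm_lt c n), ← F.pv_vec c hn, ← F.pv_vec c (hf.lt hn), htr n hn]
    have hcm : commN F.e (F.pv c (vecN n)) (sumS s) = commN F.e (vecN n) (sumS s) := by
      conv_lhs => rw [← hsum c]
      exact F.pv_comm c (vecN_lt hn) hσ
    unfold transV
    rw [hcm]
    cases commN F.e (vecN n) (sumS s)
    · simp only [cond_false]
      rw [F.pv_xor c (vecN_lt hn) hσ, hsum c]
    · rfl
  have hfull : (singN F.e).all (fun v => s.contains v) = true := by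
    rcases F.exists_gens with ⟨t, ht, f, hf, hC⟩ | ⟨⟨t, ht, f, hf, h1⟩, ⟨t', ht', f', hf', h2⟩⟩
    · have h := tab_all (perm_c_table F.e) hf.1
      simp only [hC, Bool.not_true, Bool.false_or, Bool.or_eq_true, List.all_eq_true, beq_iff] at h
      obtain ⟨b, hb⟩ : ∃ b, ∀ n < 32, vecN (apN f n) = permC F.e b (vecN n) := by
        rcases h with h | h
        exacts [⟨true, fun n hn => h n (mem_codes.2 hn)⟩, ⟨false, fun n hn => h n (mem_codes.2 hn)⟩]
      have h := List.all_eq_true.1 (orbit_c_table F.e b) _ hsub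
      simpa [hinvar t ht f hf _ hb, hne, huniq] using h
    · have e1 : ∀ n < 32, vecN (apN f n) = permT1 (vecN n) := fun n hn => by
        have h := tab_all (tab_all (perm_table F.e) hf.1) (mem_codes.2 hn)
        simp only [h1, Bool.not_true, Bool.false_or, Bool.and_eq_true, beq_iff] at h
        exact h.1.1
      have e2 : ∀ n < 32, vecN (apN f' n) = permT2 (vecN n) := fun n hn => by
        have h := tab_all (tab_all (perm_table F.e) hf'.1) (mem_codes.2 hn)
        simp only [h2, Bool.not_true, Bool.false_or, Bool.and_eq_true, beq_iff] at h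
        exact h.1.2
      have h := List.all_eq_true.1 (orbit_t_table F.e) _ hsub
      simp only [hinvar t ht f hf _ e1, hinvar t' ht' f' hf' _ e2, hne, huniq, Bool.and_self, Bool.not_true,
        Bool.false_or, Bool.or_false, Bool.or_eq_true] at h
      rcases h with (h | h) | h
      · exact h
      · refine (hcase t ht f hf (Or.inl h1) fun n hn => ?_).elim
        rw [e1 n hn, beq_eq (tab_all h (List.mem_range.2 (vecN_lt hn)))]
      · refine (hcase t' ht' f' hf' (Or.inr h2) fun n hn => ?_).elim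
        rw [e2 n hn, beq_eq (tab_all h (List.mem_range.2 (vecN_lt hn)))]
  intro v hv
  exact (hmem.1 (List.contains_iff_mem.1 (tab_all hfull hv))).2

variable (E)

/-- The centralizer of `z` is transitive on the involutions of the extraspecial subgroup other than `z`. -/
theorem all_reach {r : G} (hr : r ∈ E.R) (h2 : r * r = 1) (h1 : r ≠ 1) (hz : r ≠ E.z) :
    ∃ k ∈ centralizer ({E.z} : Set G), k * E.u * k⁻¹ = r := by
  obtain ⟨F⟩ := E.exists_frame
  obtain ⟨n, hn, rfl⟩ := F.surj hr
  have h0 : Nat.beq (vecN n) 0 = false := by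
    rw [Bool.eq_false_iff, ne_eq, beq_iff]
    intro h
    have h3 := tab_all (range_table.2 F.e) (mem_codes.2 hn)
    simp only [h, beq_self, Bool.not_true, Bool.false_or, Bool.or_eq_true, beq_iff] at h3
    rcases h3 with rfl | rfl
    exacts [h1 F.φ_zero, hz F.φ_z]
  have hx : E.x ∈ centralizer ({E.z} : Set G) := mem_centralizer_singleton_iff.2 (E.hzc _ E.xT)
  have hxu : E.x * E.u * E.x⁻¹ = E.u * E.z := by rw [E.xu, mul_inv_cancel_right]
  have h := tab_all (sing_table F.e).1 (mem_codes.2 hn)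
  simp only [(F.sq1N_iff hn).2 h2, h0, Bool.not_false, Bool.and_self, Bool.not_true, Bool.false_or,
    Bool.or_eq_true, beq_iff, List.contains_iff_mem] at h
  rcases h with h | h
  · rcases (F.vec_iff (show (1 : ℕ) < 32 by norm_num) hn).1 ((show vecN 1 = 1 from rfl).trans h.symm) with e | e
    · exact ⟨1, one_mem _, by rw [e, F.φ_u]; group⟩
    · exact ⟨E.x, hx, by rw [e, F.φ_u, hxu]⟩
  · obtain ⟨c, hc⟩ := F.all_vec _ h
    obtain ⟨k, hk, hke⟩ := E.act_conj c ⟨F.φ 1, F.φ_mem 1⟩
    rw [← F.φ_perm] at hke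
    simp only [F.φ_u] at hke
    rcases (F.vec_iff (F.perm_lt c 1) hn).1 hc with e | e
    · exact ⟨k, hk, by rw [e, hke]⟩
    · refine ⟨k * E.x, mul_mem hk hx, ?_⟩
      have hkz : k * E.z * k⁻¹ = E.z := by rw [mem_centralizer_singleton_iff.1 hk, mul_inv_cancel_right]
      calc k * E.x * E.u * (k * E.x)⁻¹ = k * (E.x * E.u * E.x⁻¹) * k⁻¹ := by group
        _ = (k * E.u * k⁻¹) * (k * E.z * k⁻¹) := by rw [hxu]; group
        _ = F.φ n := by rw [hke, hkz, e]

end Extra

end Cfsg.Agent.Transfer.NoEightExtra
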