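import Cfsg.Agent.Lib.Transfer.NoEightExtra.Setting

/-!
# Coordinates of the extraspecial subgroup and of the automorphisms induced by the Sylow 2-subgroup
-/

set_option autoImplicit false
set_option linter.style.haveILetI false
set_option linter.unusedSectionVars false
set_option maxRecDepth 100000

namespace Cfsg.Agent.Transfer.NoEightExtra

open Subgroup

theorem vec_table : ∀ e : Bool, (codes.all fun a => codes.all fun b =>
    (Nat.beq (vecN a) (vecN b) == (Nat.beq b a || Nat.beq b (mulN e a 16)))) = true := by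
  decide +kernel

theorem four_code_table : ∀ e : Bool, ([0, 16, 1, 17].all fun i =>
    [4, 5, 20, 21].contains (mulN e i 4) && [1, 17].contains (bif Nat.beq i 0 then 1 else bif Nat.beq i 16 then 17 else 1)) = true := by
  decide +kernel

theorem codes_fin {p : ℕ → Prop} (h : ∀ n ∈ codes, p n) : ∀ n < 32, p n := fun n hn => h n (mem_codes.2 hn)

variable {e : Bool}

theorem unit_spec {a : ℕ} (ha : a < 32) : mulN e 0 a = a ∧ mulN e a 0 = a ∧ mulN e a (invN e a) = 0 := by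
  have h := tab_all (unit_table e) (mem_codes.2 ha)
  simp only [Bool.and_eq_true] at h
  exact ⟨beq_eq h.1.1.1.1.1, beq_eq h.1.1.1.1.2, beq_eq h.1.1.1.2⟩

theorem invN_lt {a : ℕ} (ha : a < 32) : invN e a < 32 := mulN_lt ha (mulN_lt ha ha)

theorem conjN_lt {r n : ℕ} (hr : r < 32) (hn : n < 32) : conjN e r n < 32 := mulN_lt (mulN_lt hr hn) (invN_lt hr)

theorem auto_lt {f : ℕ} (hf : f ∈ autos e) {a : ℕ} (ha : a < 32) : apN f a < 32 := by
  have h := tab_all (autos_table e) hf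
  simp only [Bool.and_eq_true, List.all_eq_true, decide_eq_true_eq] at h
  exact (h.2 a (mem_codes.2 ha)).1.1

theorem auto_mul {f : ℕ} (hf : f ∈ autos e) {a b : ℕ} (ha : a < 32) (hb : b < 32) :
    apN f (mulN e a b) = mulN e (apN f a) (apN f b) := by
  have h := tab_all (autos_table e) hf
  simp only [Bool.and_eq_true, List.all_eq_true, decide_eq_true_eq] at h
  exact beq_eq ((h.2 a (mem_codes.2 ha)).2 b (mem_codes.2 hb))

theorem auto_zero {f : ℕ} (hf : f ∈ autos e) : apN f 0 = 0 ∧ apN f 16 = 16 := by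
  have h := tab_all (autos_table e) hf
  simp only [Bool.and_eq_true] at h
  exact ⟨beq_eq h.1.1, beq_eq h.1.2⟩

namespace Extra

variable {G : Type*} [Group G] {E : Extra G} (F : E.Frame)

/-- The element with a given code. -/
def Frame.φ (n : ℕ) : G := eval E.z E.u F.v F.c F.d n

theorem Frame.φ_mul {a b : ℕ} (ha : a < 32) (hb : b < 32) : F.φ (mulN F.e a b) = F.φ a * F.φ b :=
  F.basis.hom ha hb

theorem Frame.φ_zero : F.φ 0 = 1 := by simp [Frame.φ, eval]

theorem Frame.φ_z : F.φ 16 = E.z := by simp [Frame.φ, eval, Nat.testBit]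

theorem Frame.φ_u : F.φ 1 = E.u := by simp [Frame.φ, eval, Nat.testBit]

theorem Frame.φ_uz : F.φ 17 = E.u * E.z := by simp [Frame.φ, eval, Nat.testBit, E.zu]

theorem Frame.φ_v : F.φ 2 = F.v := by simp [Frame.φ, eval, Nat.testBit]

theorem Frame.φ_c : F.φ 4 = F.c := by simp [Frame.φ, eval, Nat.testBit]

theorem Frame.φ_d : F.φ 8 = F.d := by simp [Frame.φ, eval, Nat.testBit]

theorem Frame.φ_mem (n : ℕ) : F.φ n ∈ E.R := by
  unfold Frame.φ eval
  refine E.R.mul_mem (E.R.mul_mem (E.R.mul_mem (E.R.mul_mem ?_ ?_) ?_) ?_) ?_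
  all_goals split_ifs
  exacts [E.zR, E.R.one_mem, E.uR, E.R.one_mem, F.vR, E.R.one_mem, F.cR, E.R.one_mem, F.dR, E.R.one_mem]

theorem Frame.φ_T (n : ℕ) : F.φ n ∈ E.T := E.R_le (F.φ_mem n)

theorem Frame.φ_inv {a : ℕ} (ha : a < 32) : F.φ (invN F.e a) = (F.φ a)⁻¹ := by
  refine (inv_eq_of_mul_eq_one_right ?_).symm
  rw [← F.φ_mul ha (invN_lt ha), (unit_spec ha).2.2, F.φ_zero]

theorem Frame.φ_conj {r n : ℕ} (hr : r < 32) (hn : n < 32) : F.φ (conjN F.e r n) = F.φ r * F.φ n * (F.φ r)⁻¹ := by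
  rw [conjN, F.φ_mul (mulN_lt hr hn) (invN_lt hr), F.φ_mul hr hn, F.φ_inv hr]

theorem Frame.φ_ker {n : ℕ} (hn : n < 32) (h : F.φ n = 1) : n = 0 := by
  have ht := tab_all (noncentral_table F.e) (mem_codes.2 hn)
  simp only [Bool.or_eq_true, Bool.and_eq_true] at ht
  rcases ht with ⟨-, h0 | h0⟩ | ht
  · exact beq_eq h0
  · rw [beq_eq h0, F.φ_z] at h; exact absurd h E.z1
  · exfalso
    obtain ⟨g, hg, hb⟩ := tab_any ht
    have hg' : g < 32 := by simp at hg; omega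
    have h16 := tab_all (unit_table F.e) (mem_codes.2 (mulN_lt (e := F.e) hn hg'))
    simp only [Bool.and_eq_true] at h16
    have h2 := congrArg F.φ (beq_eq hb)
    rw [← beq_eq h16.1.1.2, F.φ_mul hg' hn, F.φ_mul (mulN_lt hn hg') (by norm_num), F.φ_mul hn hg', F.φ_z, h,
      mul_one, one_mul] at h2
    exact E.z1 (left_eq_mul.1 h2)

theorem Frame.φ_inj {a b : ℕ} (ha : a < 32) (hb : b < 32) (h : F.φ a = F.φ b) : a = b := by
  have h1 : mulN F.e a (invN F.e b) = 0 :=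
    F.φ_ker (mulN_lt ha (invN_lt hb)) (by rw [F.φ_mul ha (invN_lt hb), F.φ_inv hb, h, mul_inv_cancel])
  have h2 : mulN F.e (invN F.e b) b = 0 :=
    F.φ_ker (mulN_lt (invN_lt hb) hb) (by rw [F.φ_mul (invN_lt hb) hb, F.φ_inv hb, inv_mul_cancel])
  calc a = mulN F.e a 0 := (unit_spec ha).2.1.symm
    _ = mulN F.e (mulN F.e a (invN F.e b)) b := by rw [mulN_assoc ha (invN_lt hb) hb, h2]
    _ = b := by rw [h1, (unit_spec hb).1]

theorem Frame.eq_iff {a b : ℕ} (ha : a < 32) (hb : b < 32) : F.φ a = F.φ b ↔ a = b :=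
  ⟨F.φ_inj ha hb, fun h => h ▸ rfl⟩

theorem Frame.commN_iff {a b : ℕ} (ha : a < 32) (hb : b < 32) :
    commN F.e a b = true ↔ F.φ a * F.φ b = F.φ b * F.φ a := by
  rw [commN, beq_iff, ← F.eq_iff (mulN_lt ha hb) (mulN_lt hb ha), F.φ_mul ha hb, F.φ_mul hb ha]

theorem Frame.sq1N_iff {a : ℕ} (ha : a < 32) : sq1N F.e a = true ↔ F.φ a * F.φ a = 1 := by
  rw [sq1N, beq_iff, ← F.eq_iff (mulN_lt ha ha) (by norm_num), F.φ_mul ha ha, F.φ_zero]

theorem Frame.vec_iff {a b : ℕ} (ha : a < 32) (hb : b < 32) :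
    vecN a = vecN b ↔ F.φ b = F.φ a ∨ F.φ b = F.φ a * E.z := by
  have h := tab_all (tab_all (vec_table F.e) (mem_codes.2 ha)) (mem_codes.2 hb)
  rw [beq_iff_eq] at h
  rw [← beq_iff, h, Bool.or_eq_true, beq_iff, beq_iff, ← F.eq_iff hb ha,
    ← F.eq_iff hb (mulN_lt ha (show (16 : ℕ) < 32 by norm_num)), F.φ_mul ha (by norm_num), F.φ_z]

variable [Finite G]

theorem Frame.surj {r : G} (hr : r ∈ E.R) : ∃ n < 32, F.φ n = r := by
  let f : Fin 32 → ↥E.R := fun n => ⟨F.φ n, F.φ_mem n⟩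
  have hf : Function.Bijective f := (Nat.bijective_iff_injective_and_card f).2
    ⟨fun a b h => Fin.ext (F.φ_inj a.2 b.2 (congrArg Subtype.val h)), by
      rw [E.R_card, Nat.card_eq_fintype_card, Fintype.card_fin]⟩
  obtain ⟨n, hn⟩ := hf.2 ⟨r, hr⟩
  exact ⟨n, n.2, congrArg Subtype.val hn⟩

theorem Frame.inU_code {a : G} (h : E.InU a) : ∃ i ∈ [0, 16, 1, 17], F.φ i = a := by
  rcases h with rfl | rfl | rfl | rfl
  exacts [⟨0, by simp, F.φ_zero⟩, ⟨16, by simp, F.φ_z⟩, ⟨1, by simp, F.φ_u⟩, ⟨17, by simp, F.φ_uz⟩]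

theorem Frame.code_inU {i : ℕ} (h : i ∈ [0, 16, 1, 17]) : E.InU (F.φ i) := by
  simp only [List.mem_cons, List.mem_nil_iff, or_false] at h
  rcases h with rfl | rfl | rfl | rfl
  exacts [Or.inl F.φ_zero, Or.inr (Or.inl F.φ_z), Or.inr (Or.inr (Or.inl F.φ_u)),
    Or.inr (Or.inr (Or.inr F.φ_uz))]

/-- An element of the Sylow subgroup acts as a listed automorphism. -/
def Frame.Rep (t : G) (f : ℕ) : Prop := f ∈ autos F.e ∧ ∀ n < 32, t * F.φ n * t⁻¹ = F.φ (apN f n)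

theorem Frame.exists_rep {t : G} (ht : t ∈ E.T) : ∃ f, F.Rep t f := by
  obtain ⟨a, ha, hae⟩ := F.surj (E.R_normal t ht _ (F.φ_mem 1))
  obtain ⟨b, hb, hbe⟩ := F.surj (E.R_normal t ht _ (F.φ_mem 2))
  obtain ⟨c, hc, hce⟩ := F.surj (E.R_normal t ht _ (F.φ_mem 4))
  obtain ⟨d, hd, hde⟩ := F.surj (E.R_normal t ht _ (F.φ_mem 8))
  have ha' : a ∈ [1, 17] := by
    rcases E.hu t ht with k | k
    · have h : a = 1 := F.φ_inj ha (by norm_num) (by rw [hae, F.φ_u, k, mul_inv_cancel_right])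
      simp [h]
    · have h : a = 17 := F.φ_inj ha (by norm_num) (by rw [hae, F.φ_u, k, mul_inv_cancel_right, F.φ_uz])
      simp [h]
  have hc' : c ∈ [4, 5, 20, 21] := by
    obtain ⟨i, hi, hie⟩ := F.inU_code (F.cT t ht)
    have hi32 : i < 32 := by simp at hi; omega
    have h : c = mulN F.e i 4 := F.φ_inj hc (mulN_lt hi32 (by norm_num)) (by
      rw [hce, F.φ_mul hi32 (by norm_num), hie, F.φ_c, inv_mul_cancel_right])
    have h2 := tab_all (four_code_table F.e) hi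
    simp only [Bool.and_eq_true, List.contains_iff_mem] at h2
    rw [h]; exact h2.1
  have hinj : ∀ {p q : G}, t * p * t⁻¹ = t * q * t⁻¹ ↔ p = q := fun {p q} =>
    ⟨fun h => mul_left_cancel (mul_right_cancel h), fun h => h ▸ rfl⟩
  have hmulc : ∀ p q : G, t * (p * q) * t⁻¹ = (t * p * t⁻¹) * (t * q * t⁻¹) := fun p q => by group
  have key : ∀ {g h p q : ℕ}, g < 32 → h < 32 → p < 32 → q < 32 → F.φ g = t * F.φ p * t⁻¹ →
      F.φ h = t * F.φ q * t⁻¹ → (commN F.e g h == commN F.e p q) = true := by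
    intro g h p q hg hh hp hq h1 h2
    rw [beq_iff_eq, Bool.eq_iff_iff, F.commN_iff hg hh, F.commN_iff hp hq, h1, h2, ← hmulc, ← hmulc, hinj]
  have keysq : ∀ {g p : ℕ}, g < 32 → p < 32 → F.φ g = t * F.φ p * t⁻¹ →
      (sq1N F.e g == sq1N F.e p) = true := by
    intro g p hg hp h1
    rw [beq_iff_eq, Bool.eq_iff_iff, F.sq1N_iff hg, F.sq1N_iff hp, h1, ← hmulc, conj_eq_one_iff]
  have hadm : admissible F.e a b c d = true := by
    unfold admissible
    simp only [keysq hb (by norm_num) hbe, keysq hd (by norm_num) hde, key ha hb (by norm_num) (by norm_num) hae hbe,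
      key ha hc (by norm_num) (by norm_num) hae hce, key ha hd (by norm_num) (by norm_num) hae hde,
      key hb hc (by norm_num) (by norm_num) hbe hce, key hb hd (by norm_num) (by norm_num) hbe hde,
      key hc hd (by norm_num) (by norm_num) hce hde, Bool.and_self]
  have h := tab_all (tab_all (tab_all (tab_all (complete_table F.e) ha') hc') (mem_codes.2 hb)) (mem_codes.2 hd)
  rw [hadm, Bool.not_true, Bool.false_or] at h
  obtain ⟨f, hf, hfe⟩ := tab_any h
  simp only [Bool.and_eq_true, beq_iff] at hfe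
  obtain ⟨⟨⟨e1, e2⟩, e4⟩, e8⟩ := hfe
  refine ⟨f, hf, ?_⟩
  let Q : ℕ → Prop := fun n => n < 32 ∧ t * F.φ n * t⁻¹ = F.φ (apN f n)
  have step : ∀ g h, Q g → Q h → Q (mulN F.e g h) := fun g h hg hh => ⟨mulN_lt hg.1 hh.1, by
    rw [auto_mul hf hg.1 hh.1, F.φ_mul (auto_lt hf hg.1) (auto_lt hf hh.1), F.φ_mul hg.1 hh.1, hmulc, hg.2, hh.2]⟩
  have qgen : ∀ g ∈ [0, 16, 1, 2, 4, 8], Q g := by
    intro g hg
    refine ⟨by simp at hg; omega, ?_⟩
    simp only [List.mem_cons, List.mem_nil_iff, or_false] at hg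
    rcases hg with rfl | rfl | rfl | rfl | rfl | rfl
    · rw [(auto_zero hf).1, F.φ_zero]; group
    · rw [(auto_zero hf).2, F.φ_z, E.hzc t ht, mul_inv_cancel_right]
    · rw [e1, hae]
    · rw [e2, hbe]
    · rw [e4, hce]
    · rw [e8, hde]
  intro n hn
  have en := beq_eq (tab_all (gen_table F.e) (mem_codes.2 hn))
  rw [en]
  refine (step _ _ (step _ _ (step _ _ (step _ _ (qgen _ ?_) (qgen _ ?_)) (qgen _ ?_)) (qgen _ ?_)) (qgen _ ?_)).2
  all_goals interval_cases n <;> decide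

variable {F}

theorem Frame.Rep.lt {t : G} {f n : ℕ} (h : F.Rep t f) (hn : n < 32) : apN f n < 32 := auto_lt h.1 hn

theorem Frame.Rep.apply_eq {t : G} {f n : ℕ} (h : F.Rep t f) (hn : n < 32) {m : ℕ} (hm : m < 32)
    (he : t * F.φ n * t⁻¹ = F.φ m) : apN f n = m := F.φ_inj (h.lt hn) hm ((h.2 n hn).symm.trans he)

theorem Frame.Rep.fix_iff {t : G} {f n : ℕ} (h : F.Rep t f) (hn : n < 32) :
    apN f n = n ↔ t * F.φ n = F.φ n * t := by
  rw [← F.eq_iff (h.lt hn) hn, ← h.2 n hn, mul_inv_eq_iff_eq_mul]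

theorem Frame.Rep.u_iff {t : G} {f : ℕ} (h : F.Rep t f) : apN f 1 = 1 ↔ t * E.u = E.u * t := by
  rw [h.fix_iff (by norm_num), F.φ_u]

theorem Frame.Rep.mul {t s : G} {f g : ℕ} (hf : F.Rep t f) (hg : F.Rep s g) {n : ℕ} (hn : n < 32) :
    t * s * F.φ n * (t * s)⁻¹ = F.φ (apN f (apN g n)) := by
  rw [← hf.2 _ (hg.lt hn), ← hg.2 n hn]; group

theorem Frame.Rep.comp {t s : G} {f g k : ℕ} (hf : F.Rep t f) (hg : F.Rep s g) (hk : F.Rep (t * s) k) {n : ℕ}
    (hn : n < 32) : apN k n = apN f (apN g n) := hk.apply_eq hn (hf.lt (hg.lt hn)) (hf.mul hg hn)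

theorem eqG_of {f g : ℕ → ℕ} (h : ∀ n < 32, f n = g n) : eqG f g = true := by
  simp [eqG, gensN, h 1 (by norm_num), h 2 (by norm_num), h 4 (by norm_num), h 8 (by norm_num)]

theorem isId_of {f : ℕ → ℕ} (h : ∀ n < 32, f n = n) : isId f = true := eqG_of h

theorem eqG_spec {f g : ℕ → ℕ} (h : eqG f g = true) : f 1 = g 1 ∧ f 2 = g 2 ∧ f 4 = g 4 ∧ f 8 = g 8 := by
  simp only [eqG, gensN, List.all_cons, List.all_nil, Bool.and_true, Bool.and_eq_true, beq_iff] at h
  exact h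

/-- Equal actions on the generators differ by the centre. -/
theorem Frame.trivial_of_gens {t : G} (ht : t ∈ E.T) (h : ∀ g ∈ gensN, t * F.φ g * t⁻¹ = F.φ g) :
    t = 1 ∨ t = E.z := by
  refine E.CR t ht fun r hr => ?_
  obtain ⟨n, hn, rfl⟩ := F.surj hr
  let Q : ℕ → Prop := fun n => n < 32 ∧ t * F.φ n = F.φ n * t
  have step : ∀ g k, Q g → Q k → Q (mulN F.e g k) := fun g k hg hk => ⟨mulN_lt hg.1 hk.1, by
    rw [F.φ_mul hg.1 hk.1, ← mul_assoc, hg.2, mul_assoc, hk.2, mul_assoc]⟩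
  have qgen : ∀ g ∈ [0, 16, 1, 2, 4, 8], Q g := by
    intro g hg
    refine ⟨by simp at hg; omega, ?_⟩
    have k : ∀ {g}, g ∈ gensN → t * F.φ g = F.φ g * t := fun hg => mul_inv_eq_iff_eq_mul.1 (h _ hg)
    simp only [List.mem_cons, List.mem_nil_iff, or_false] at hg
    rcases hg with rfl | rfl | rfl | rfl | rfl | rfl
    · rw [F.φ_zero, mul_one, one_mul]
    · rw [F.φ_z, E.hzc t ht]
    all_goals exact k (by decide)
  have en := beq_eq (tab_all (gen_table F.e) (mem_codes.2 hn))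
  rw [en]
  refine (step _ _ (step _ _ (step _ _ (step _ _ (qgen _ ?_) (qgen _ ?_)) (qgen _ ?_)) (qgen _ ?_)) (qgen _ ?_)).2
  all_goals interval_cases n <;> decide

theorem Frame.Rep.eq_of {t s : G} {f g : ℕ} (hf : F.Rep t f) (hg : F.Rep s g) (ht : t ∈ E.T) (hs : s ∈ E.T)
    (h : eqG (apN f) (apN g) = true) : t = s ∨ t = s * E.z := by
  obtain ⟨e1, e2, e4, e8⟩ := eqG_spec h
  have key : ∀ n ∈ gensN, s⁻¹ * t * F.φ n * (s⁻¹ * t)⁻¹ = F.φ n := by
    intro n hn
    have hn' : n < 32 := by simp [gensN] at hn; omega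
    have e : apN f n = apN g n := by
      simp only [gensN, List.mem_cons, List.mem_nil_iff, or_false] at hn
      rcases hn with rfl | rfl | rfl | rfl <;> assumption
    rw [show s⁻¹ * t * F.φ n * (s⁻¹ * t)⁻¹ = s⁻¹ * (t * F.φ n * t⁻¹) * s by group, hf.2 n hn', e, ← hg.2 n hn']
    group
  rcases F.trivial_of_gens ((E.T : Subgroup G).mul_mem ((E.T : Subgroup G).inv_mem hs) ht) key with k | k
  · exact Or.inl (inv_mul_eq_one.1 k).symm
  · exact Or.inr (inv_mul_eq_iff_eq_mul.1 k)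

theorem Frame.rep_code {k : ℕ} (hk : k < 32) {f : ℕ} (h : F.Rep (F.φ k) f) {n : ℕ} (hn : n < 32) :
    apN f n = conjN F.e k n := h.apply_eq hn (conjN_lt hk hn) (F.φ_conj hk hn).symm

theorem Frame.Rep.conj_inner {t : G} {f k : ℕ} (hf : F.Rep t f) (hk : k < 32) {g : ℕ} (hg : F.Rep (t * F.φ k) g)
    {n : ℕ} (hn : n < 32) : apN g n = apN f (conjN F.e k n) := by
  obtain ⟨i, hi⟩ := F.exists_rep (F.φ_T k)
  rw [hf.comp hi hg hn, Frame.rep_code hk hi hn]

theorem Frame.Rep.mem_R {t : G} {f : ℕ} (hf : F.Rep t f) (ht : t ∈ E.T) (h : isInner (apN f) = true) : t ∈ E.R := by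
  have h1 := tab_all (inner_table F.e) hf.1
  simp only [h, Bool.not_true, Bool.false_or, Bool.and_eq_true] at h1
  obtain ⟨k, hk, hke⟩ := tab_any h1.1
  obtain ⟨g, hg⟩ := F.exists_rep (F.φ_T k)
  rcases hf.eq_of hg ht (F.φ_T k) (by
    obtain ⟨e1, e2, e4, e8⟩ := eqG_spec hke
    have hk' := mem_codes.1 hk
    simp [eqG, gensN, e1, e2, e4, e8, Frame.rep_code hk' hg]) with r | r
  · rw [r]; exact F.φ_mem k
  · rw [r]; exact E.R.mul_mem (F.φ_mem k) E.zR

theorem Frame.Rep.inner_of_mem {t : G} {f : ℕ} (hf : F.Rep t f) (h : t ∈ E.R) : isInner (apN f) = true := by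
  obtain ⟨k, hk, rfl⟩ := F.surj h
  have h1 := tab_all (inner_table F.e) hf.1
  simp only [Bool.and_eq_true, List.all_eq_true, Bool.or_eq_true] at h1
  refine (h1.2 k (mem_codes.2 hk)).resolve_left ?_
  rw [eqG_of fun n hn => Frame.rep_code hk hf hn]
  simp

theorem Frame.Rep.invol {t : G} {f : ℕ} (hf : F.Rep t f) (h : t * t = 1) : isId (fun n => apN f (apN f n)) = true :=
  isId_of fun n hn => F.φ_inj (hf.lt (hf.lt hn)) hn (by rw [← hf.mul hf hn, h]; group)

theorem Frame.Rep.comm {t s : G} {f g : ℕ} (hf : F.Rep t f) (hg : F.Rep s g) (h : t * s = s * t) :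
    eqG (fun n => apN f (apN g n)) (fun n => apN g (apN f n)) = true :=
  eqG_of fun n hn => F.φ_inj (hf.lt (hg.lt hn)) (hg.lt (hf.lt hn)) (by rw [← hf.mul hg hn, ← hg.mul hf hn, h])

theorem Frame.Rep.nontrivial {t : G} {f : ℕ} (hf : F.Rep t f) (ht : t ∈ E.T) (h : isId (apN f) = true) :
    t = 1 ∨ t = E.z := by
  obtain ⟨e1, e2, e4, e8⟩ := eqG_spec h
  refine F.trivial_of_gens ht fun n hn => ?_
  have hn' : n < 32 := by simp [gensN] at hn; omega
  rw [hf.2 n hn']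
  simp only [gensN, List.mem_cons, List.mem_nil_iff, or_false] at hn
  rcases hn with rfl | rfl | rfl | rfl <;> simp_all

end Extra

end Cfsg.Agent.Transfer.NoEightExtra
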