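import Cfsg.Agent.Lib.Transfer.NoEightExtra.Code

/-!
# Finite checks on the codes
-/

set_option autoImplicit false
set_option maxRecDepth 100000

namespace Cfsg.Agent.Transfer.NoEightExtra

/-- The four images admissible for the four generators. -/
def admissible (e : Bool) (a b c d : ℕ) : Bool :=
  let ok := fun g h x y => commN e g h == commN e x y
  sq1N e b == sq1N e 2 && sq1N e d == sq1N e 8 && ok a b 1 2 && ok a c 1 4 && ok a d 1 8 && ok b c 2 4 &&
    ok b d 2 8 && ok c d 4 8

theorem group_table : ∀ e : Bool, (codes.all fun a => codes.all fun b => decide (mulN e a b < 32) &&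
    codes.all fun c => Nat.beq (mulN e (mulN e a b) c) (mulN e a (mulN e b c))) = true := by
  decide +kernel

theorem unit_table : ∀ e : Bool, (codes.all fun a => Nat.beq (mulN e 0 a) a && Nat.beq (mulN e a 0) a &&
    Nat.beq (mulN e a (invN e a)) 0 && Nat.beq (mulN e a 16) (Nat.xor a 16) && commN e a 16 &&
    (Nat.beq (mulN e a a) 0 || Nat.beq (mulN e a a) 16)) = true := by
  decide +kernel

theorem autos_table : ∀ e : Bool, ((autos e).all fun f => Nat.beq (apN f 0) 0 && Nat.beq (apN f 16) 16 &&
    codes.all fun a => (decide (apN f a < 32) && (Nat.beq a 0 || !Nat.beq (apN f a) 0)) &&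
      codes.all fun b => Nat.beq (apN f (mulN e a b)) (mulN e (apN f a) (apN f b))) = true := by
  decide +kernel

theorem complete_table : ∀ e : Bool, ([1, 17].all fun a => [4, 5, 20, 21].all fun c => codes.all fun b =>
    codes.all fun d => !admissible e a b c d || (autos e).any fun f =>
      Nat.beq (apN f 1) a && Nat.beq (apN f 2) b && Nat.beq (apN f 4) c && Nat.beq (apN f 8) d) = true := by
  decide +kernel

theorem gen_table : ∀ e : Bool, (codes.all fun n =>
    Nat.beq n (mulN e (mulN e (mulN e (mulN e (Nat.land n 16) (Nat.land n 1)) (Nat.land n 2)) (Nat.land n 4))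
      (Nat.land n 8))) = true := by
  decide +kernel

theorem inner_table : ∀ e : Bool, ((autos e).all fun f =>
    (!isInner (apN f) || codes.any fun r => eqG (apN f) (conjN e r)) &&
    codes.all fun r => !eqG (apN f) (conjN e r) || isInner (apN f)) = true := by
  decide +kernel

theorem conj_table : ∀ e : Bool, (codes.all fun r => (!eqG (conjN e r) id || Nat.beq (vecN r) 0) &&
    isInner (conjN e r) && codes.all fun s => Nat.beq (conjN e r s) s == commN e r s) = true := by
  decide +kernel

theorem type_table : ∀ e : Bool, ((autos e).all fun f =>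
    (isK (apN f) || isT1 (apN f) || isT2 (apN f) || isC e (apN f)) &&
    (!isT1 (apN f) || Nat.beq (vecN (apN f 2)) 2) &&
    (!isT2 (apN f) || Nat.beq (vecN (apN f (secondV e))) (secondV e)) &&
    (!isInner (apN f) || isK (apN f))) = true := by
  decide +kernel

theorem kclosed_table : ∀ e : Bool, ((autos e).all fun f => (autos e).all fun g =>
    (isK fun n => apN f (apN g n)) == (isK (apN f) == isK (apN g))) = true := by
  decide +kernel

theorem single_table : ∀ e : Bool, ((autos e).all fun f => (autos e).all fun g =>
    !isK (apN f) || (!isT1 (apN g) || !isT1 (fun n => apN f (apN g n)) || isInner (apN f)) &&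
      (!isT2 (apN g) || !isT2 (fun n => apN f (apN g n)) || isInner (apN f))) = true := by
  decide +kernel

theorem stab_table : ∀ e : Bool, ((autos e).all fun f =>
    !(isId (fun n => apN f (apN f n)) && Nat.beq (apN f 1) 1) ||
    (!Nat.beq (apN f 2) 2 || isT1 (apN f) || isInner (apN f)) &&
      (!Nat.beq (apN f (secondV e)) (secondV e) || isT2 (apN f) || isInner (apN f))) = true ∧
    (codes.all fun r => !(e && sq1N e r && commN e r 1) ||
      (!commN e r 2 || Nat.beq (vecN r) 0) && (!commN e r (secondV e) || Nat.beq (vecN r) 0)) = true := by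
  decide +kernel

end Cfsg.Agent.Transfer.NoEightExtra
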