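import Cfsg.Prelude
import Cfsg.Agent.Lib.Grp.Frattini
import Cfsg.Agent.Lib.Transfer.NoEightExtra.Tables

/-!
# An extraspecial group of order 32 in a Sylow 2-subgroup, coordinates
-/

set_option autoImplicit false
set_option linter.style.haveILetI false
set_option linter.unusedSectionVars false

namespace Cfsg.Agent.Transfer.NoEightExtra

open Subgroup

/-- The configuration: the extraspecial subgroup `R` of order 32 in a Sylow 2-subgroup with its unique normal
four-group `{1, z, u, u * z}`, and the action of the centralizer of `z` on `R`. -/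
structure Extra (G : Type*) [Group G] where
  T : Sylow 2 G
  z : G
  u : G
  x : G
  R : Subgroup G
  zT : z ∈ T
  uR : u ∈ R
  xT : x ∈ T
  z2 : z * z = 1
  u2 : u * u = 1
  z1 : z ≠ 1
  u1 : u ≠ 1
  uz : u ≠ z
  hzc : ∀ g ∈ T, g * z = z * g
  hu : ∀ g ∈ T, g * u = u * g ∨ g * u = u * z * g
  xu : x * u = u * z * x
  R_le : R ≤ (T : Subgroup G)
  R_card : Nat.card ↥R = 32
  R_normal : ∀ t ∈ T, ∀ r ∈ R, t * r * t⁻¹ ∈ R
  R_center : ∀ r ∈ R, (∀ s ∈ R, r * s = s * r) → r = 1 ∨ r = z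
  R_sq : ∀ r ∈ R, r * r = 1 ∨ r * r = z
  R_comm : ∀ r ∈ R, ∀ s ∈ R, r * s * r⁻¹ * s⁻¹ = 1 ∨ r * s * r⁻¹ * s⁻¹ = z
  CR : ∀ t ∈ T, (∀ r ∈ R, t * r = r * t) → t = 1 ∨ t = z
  act : ↥(centralizer ({z} : Set G)) →* MulAut ↥R
  act_T : ∀ (c : ↥(centralizer ({z} : Set G))) (r : ↥R), (c : G) ∈ T → ((act c r : ↥R) : G) = c * r * (c : G)⁻¹
  act_conj : ∀ (c : ↥(centralizer ({z} : Set G))) (r : ↥R),
    ∃ k ∈ centralizer ({z} : Set G), k * (r : G) * k⁻¹ = ((act c r : ↥R) : G)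
  mem_R : ∀ c ∈ centralizer ({z} : Set G), ∀ r ∈ R, c * r * c⁻¹ ∈ T → c * r * c⁻¹ ∈ R
  moveU : ∃ c : ↥(centralizer ({z} : Set G)), ¬ (((act c ⟨u, uR⟩ : ↥R) : G) = 1 ∨
    ((act c ⟨u, uR⟩ : ↥R) : G) = z ∨ ((act c ⟨u, uR⟩ : ↥R) : G) = u ∨ ((act c ⟨u, uR⟩ : ↥R) : G) = u * z)
  moves : ∀ t ∈ T, t ∉ R → ∃ c : ↥(centralizer ({z} : Set G)), ∃ r s : ↥R, (s : G) = t * r * t⁻¹ ∧
    ¬ (((act c s : ↥R) : G) = t * (act c r : ↥R) * t⁻¹ ∨ ((act c s : ↥R) : G) = t * (act c r : ↥R) * t⁻¹ * z)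
  noE8 : ∀ E : Subgroup G, E ≤ (T : Subgroup G) → Cfsg.IsElementaryAbelian 2 E → Nat.card ↥E = 8 →
    (∀ t ∈ T, ∀ e ∈ E, t * e * t⁻¹ ∈ E) → False
  oneFour : ∀ v ∈ T, v * v = 1 → (∀ t ∈ T, t * v * t⁻¹ = v ∨ t * v * t⁻¹ = v * z) →
    v = 1 ∨ v = z ∨ v = u ∨ v = u * z
  conn : ∀ v ∈ T, v * v = 1 → v * u ≠ u * v →
    ∃ y ∈ T, y * u = u * y ∧ y * v = v * y ∧ y * y = 1 ∧ y ≠ 1 ∧ y ≠ z

theorem mem_codes {n : ℕ} : n ∈ codes ↔ n < 32 := by
  constructor
  · intro h
    simp [codes] at h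
    omega
  · intro h
    interval_cases n <;> simp [codes]

theorem tab_all {l : List ℕ} {p : ℕ → Bool} (h : l.all p = true) {n : ℕ} (hn : n ∈ l) : p n = true :=
  List.all_eq_true.1 h n hn

theorem tab_any {l : List ℕ} {p : ℕ → Bool} (h : l.any p = true) : ∃ n ∈ l, p n = true := List.any_eq_true.1 h

theorem beq_eq {a b : ℕ} (h : Nat.beq a b = true) : a = b := Nat.eq_of_beq_eq_true h

theorem beq_self (a : ℕ) : Nat.beq a a = true := Nat.beq_refl a

theorem beq_iff {a b : ℕ} : Nat.beq a b = true ↔ a = b := ⟨beq_eq, fun h => h ▸ beq_self a⟩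

variable {e : Bool}

theorem mulN_lt {a b : ℕ} (ha : a < 32) (hb : b < 32) : mulN e a b < 32 := by
  have h := tab_all (tab_all (group_table e) (mem_codes.2 ha)) (mem_codes.2 hb)
  simp only [Bool.and_eq_true, decide_eq_true_eq] at h
  exact h.1

theorem mulN_assoc {a b c : ℕ} (ha : a < 32) (hb : b < 32) (hc : c < 32) :
    mulN e (mulN e a b) c = mulN e a (mulN e b c) := by
  have h := tab_all (tab_all (group_table e) (mem_codes.2 ha)) (mem_codes.2 hb)
  simp only [Bool.and_eq_true] at h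
  exact beq_eq (tab_all h.2 (mem_codes.2 hc))

/-- The code with the given bits. -/
def encode (s a b i j : Bool) : ℕ := (bif s then 16 else 0) + (bif a then 1 else 0) + (bif b then 2 else 0) +
  (bif i then 4 else 0) + (bif j then 8 else 0)

/-- The product of basic elements with exponents given by bits. -/
def eval {G : Type*} [Group G] (z u v c d : G) (n : ℕ) : G :=
  (if n.testBit 4 then z else 1) * (if n.testBit 0 then u else 1) * (if n.testBit 1 then v else 1) *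
    (if n.testBit 2 then c else 1) * (if n.testBit 3 then d else 1)

theorem left_table : ∀ e : Bool, (codes.all fun n => Nat.beq (mulN e 16 n) (Nat.xor n 16) &&
    Nat.beq (mulN e 1 n) (Nat.xor n 1) &&
    Nat.beq (mulN e 2 n) (Nat.xor (Nat.xor n 2) (bif n.testBit 0 then 16 else 0)) &&
    Nat.beq (mulN e 4 n) (Nat.xor (Nat.xor n 4) (bif n.testBit 2 then 16 else 0)) &&
    Nat.beq (mulN e 8 n) (Nat.xor (Nat.xor n 8)
      (bif xor (n.testBit 2) (e && n.testBit 3) then 16 else 0))) = true := by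
  decide +kernel

theorem noncentral_table : ∀ e : Bool, (codes.all fun n => Nat.beq (vecN n) 0 && (Nat.beq n 0 || Nat.beq n 16) ||
    [1, 2, 4, 8].any fun g => Nat.beq (mulN e g n) (Nat.xor (mulN e n g) 16)) = true := by
  decide +kernel

section

variable {G : Type*} [Group G]

/-- The relations of the basic elements. -/
structure Basis (e : Bool) (z u v c d : G) : Prop where
  z2 : z * z = 1
  u2 : u * u = 1
  v2 : v * v = 1
  c2 : c * c = z
  d2 : d * d = if e then z else 1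
  zu : u * z = z * u
  zv : v * z = z * v
  zc : c * z = z * c
  zd : d * z = z * d
  vu : v * u = z * (u * v)
  cu : c * u = u * c
  du : d * u = u * d
  cv : c * v = v * c
  dv : d * v = v * d
  dc : d * c = z * (c * d)

theorem Basis.left {z u v c d : G} (B : Basis e z u v c d) {n : ℕ} (hn : n < 32) :
    eval z u v c d (mulN e 16 n) = z * eval z u v c d n ∧ eval z u v c d (mulN e 1 n) = u * eval z u v c d n ∧
      eval z u v c d (mulN e 2 n) = v * eval z u v c d n ∧ eval z u v c d (mulN e 4 n) = c * eval z u v c d n ∧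
        eval z u v c d (mulN e 8 n) = d * eval z u v c d n := by
  have h := tab_all (left_table e) (mem_codes.2 hn)
  simp only [Bool.and_eq_true] at h
  obtain ⟨⟨⟨⟨h0, h1⟩, h2⟩, h3⟩, h4⟩ := h
  rw [beq_eq h0, beq_eq h1, beq_eq h2, beq_eq h3, beq_eq h4]
  have zz : ∀ w, z * (z * w) = w := fun w => by rw [← mul_assoc, B.z2, one_mul]
  have uu : ∀ w, u * (u * w) = w := fun w => by rw [← mul_assoc, B.u2, one_mul]
  have vv : ∀ w, v * (v * w) = w := fun w => by rw [← mul_assoc, B.v2, one_mul]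
  have cc : ∀ w, c * (c * w) = z * w := fun w => by rw [← mul_assoc, B.c2]
  have dd : ∀ w, d * (d * w) = (if e then z else 1) * w := fun w => by rw [← mul_assoc, B.d2]
  have zu : ∀ w, u * (z * w) = z * (u * w) := fun w => by rw [← mul_assoc, B.zu, mul_assoc]
  have zv : ∀ w, v * (z * w) = z * (v * w) := fun w => by rw [← mul_assoc, B.zv, mul_assoc]
  have zc : ∀ w, c * (z * w) = z * (c * w) := fun w => by rw [← mul_assoc, B.zc, mul_assoc]
  have zd : ∀ w, d * (z * w) = z * (d * w) := fun w => by rw [← mul_assoc, B.zd, mul_assoc]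
  have vu : ∀ w, v * (u * w) = z * (u * (v * w)) := fun w => by
    rw [← mul_assoc, B.vu]; simp only [mul_assoc]
  have cu : ∀ w, c * (u * w) = u * (c * w) := fun w => by rw [← mul_assoc, B.cu, mul_assoc]
  have du : ∀ w, d * (u * w) = u * (d * w) := fun w => by rw [← mul_assoc, B.du, mul_assoc]
  have cv : ∀ w, c * (v * w) = v * (c * w) := fun w => by rw [← mul_assoc, B.cv, mul_assoc]
  have dv : ∀ w, d * (v * w) = v * (d * w) := fun w => by rw [← mul_assoc, B.dv, mul_assoc]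
  have dc : ∀ w, d * (c * w) = z * (c * (d * w)) := fun w => by
    rw [← mul_assoc, B.dc]; simp only [mul_assoc]
  interval_cases n <;> cases e <;>
    simp [eval, Nat.testBit, Nat.shiftRight_eq_div_pow, mul_assoc, B.z2, B.u2, B.v2, B.c2, B.d2, B.zu, B.zv, B.zc,
      B.zd, B.vu, B.cu, B.du, B.cv, B.dv, B.dc, zz, uu, vv, cc, dd, zu, zv, zc, zd, vu, cu, du, cv, dv, dc]

theorem Basis.hom {z u v c d : G} (B : Basis e z u v c d) {a b : ℕ} (ha : a < 32) (hb : b < 32) :
    eval z u v c d (mulN e a b) = eval z u v c d a * eval z u v c d b := by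
  set φ := eval z u v c d
  let Q : ℕ → Prop := fun g => g < 32 ∧ ∀ n < 32, φ (mulN e g n) = φ g * φ n
  have h0 : ∀ n < 32, mulN e 0 n = n ∧ mulN e n 0 = n := fun n hn => by
    have h := tab_all (unit_table e) (mem_codes.2 hn)
    simp only [Bool.and_eq_true] at h
    exact ⟨beq_eq h.1.1.1.1.1, beq_eq h.1.1.1.1.2⟩
  have step : ∀ g h, Q g → Q h → Q (mulN e g h) := fun g h hg hh => ⟨mulN_lt hg.1 hh.1, fun n hn => by
    rw [mulN_assoc hg.1 hh.1 hn, hg.2 _ (mulN_lt hh.1 hn), hh.2 n hn, hg.2 h hh.1, mul_assoc]⟩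
  have qgen : ∀ g ∈ [0, 16, 1, 2, 4, 8], Q g := by
    intro g hg
    refine ⟨by simp at hg; omega, fun n hn => ?_⟩
    obtain ⟨l0, l1, l2, l3, l4⟩ := B.left hn
    simp only [List.mem_cons, List.mem_nil_iff, or_false] at hg
    rcases hg with rfl | rfl | rfl | rfl | rfl | rfl
    · rw [(h0 n hn).1, show φ 0 = 1 by simp [φ, eval], one_mul]
    · rw [show φ 16 = z by simp [φ, eval, Nat.testBit]]; exact l0
    · rw [show φ 1 = u by simp [φ, eval, Nat.testBit]]; exact l1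
    · rw [show φ 2 = v by simp [φ, eval, Nat.testBit]]; exact l2
    · rw [show φ 4 = c by simp [φ, eval, Nat.testBit]]; exact l3
    · rw [show φ 8 = d by simp [φ, eval, Nat.testBit]]; exact l4
  have e := beq_eq (tab_all (gen_table e) (mem_codes.2 ha))
  rw [e]
  refine (step _ _ (step _ _ (step _ _ (step _ _ (qgen _ ?_) (qgen _ ?_)) (qgen _ ?_)) (qgen _ ?_)) (qgen _ ?_)).2 b hb
  all_goals interval_cases a <;> decide

end

variable {G : Type*} [Group G]

namespace Extra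

variable (E : Extra G)

theorem zR : E.z ∈ E.R := by
  have h := E.R_normal _ E.xT _ E.uR
  rw [E.xu, mul_inv_cancel_right] at h
  have h2 := E.R.mul_mem E.uR h
  rwa [← mul_assoc, E.u2, one_mul] at h2

theorem uT : E.u ∈ E.T := E.R_le E.uR

theorem zu : E.u * E.z = E.z * E.u := E.hzc _ E.uT

/-- Membership in the four-group. -/
def InU (a : G) : Prop := a = 1 ∨ a = E.z ∨ a = E.u ∨ a = E.u * E.z

variable {E}

theorem InU.mem {a : G} (h : E.InU a) : a ∈ E.R := by
  rcases h with rfl | rfl | rfl | rfl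
  exacts [E.R.one_mem, E.zR, E.uR, E.R.mul_mem E.uR E.zR]

theorem InU.mul {a b : G} (ha : E.InU a) (hb : E.InU b) : E.InU (a * b) := by
  have e1 : E.z * (E.u * E.z) = E.u := by rw [← mul_assoc, ← E.zu, mul_assoc, E.z2, mul_one]
  have e2 : E.u * (E.u * E.z) = E.z := by rw [← mul_assoc, E.u2, one_mul]
  have e3 : E.u * E.z * E.z = E.u := by rw [mul_assoc, E.z2, mul_one]
  have e4 : E.u * E.z * E.u = E.z := by rw [mul_assoc, ← E.zu, e2]
  have e5 : E.u * E.z * (E.u * E.z) = 1 := by rw [mul_assoc, e1, E.u2]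
  rcases ha with rfl | rfl | rfl | rfl <;> rcases hb with rfl | rfl | rfl | rfl <;>
    simp [InU, E.z2, E.u2, ← E.zu, e1, e2, e3, e4, e5]

theorem InU.sq {a : G} (h : E.InU a) : a * a = 1 := by
  rcases h with rfl | rfl | rfl | rfl
  · simp
  · exact E.z2
  · exact E.u2
  · rw [mul_assoc, ← mul_assoc E.z, ← E.zu, ← mul_assoc, ← mul_assoc, E.u2, one_mul, E.z2]

theorem InU.inv {a : G} (h : E.InU a) : a⁻¹ = a := inv_eq_of_mul_eq_one_right h.sq

theorem InU.comm_R {a r : G} (h : E.InU a) (hr : r ∈ E.T) (hru : r * E.u = E.u * r) : r * a = a * r := by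
  rcases h with rfl | rfl | rfl | rfl
  · simp
  · exact E.hzc r hr
  · exact hru
  · rw [← mul_assoc, hru, mul_assoc, E.hzc r hr, mul_assoc]

theorem InU.conj {a t : G} (h : E.InU a) (ht : t ∈ E.T) : E.InU (t * a * t⁻¹) := by
  rcases h with rfl | rfl | rfl | rfl
  · exact Or.inl (by simp)
  · exact Or.inr (Or.inl (by rw [E.hzc t ht, mul_inv_cancel_right]))
  · rcases E.hu t ht with k | k
    · exact Or.inr (Or.inr (Or.inl (by rw [k, mul_inv_cancel_right])))
    · exact Or.inr (Or.inr (Or.inr (by rw [k, mul_inv_cancel_right])))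
  · rcases E.hu t ht with k | k
    · exact Or.inr (Or.inr (Or.inr (by rw [← mul_assoc, k, mul_assoc E.u t, E.hzc t ht, ← mul_assoc, mul_inv_cancel_right])))
    · refine Or.inr (Or.inr (Or.inl ?_))
      rw [← mul_assoc, k, mul_assoc (E.u * E.z) t, E.hzc t ht, ← mul_assoc, mul_inv_cancel_right, mul_assoc, E.z2,
        mul_one]

variable (E)

theorem inU_u : E.InU E.u := Or.inr (Or.inr (Or.inl rfl))

theorem commute_or {r s : G} (hr : r ∈ E.R) (hs : s ∈ E.R) : r * s = s * r ∨ r * s = E.z * (s * r) := by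
  rcases E.R_comm r hr s hs with h | h
  · exact Or.inl (by rw [mul_inv_eq_one, mul_inv_eq_iff_eq_mul] at h; exact h)
  · exact Or.inr (by rw [mul_inv_eq_iff_eq_mul, mul_inv_eq_iff_eq_mul, mul_assoc] at h; exact h)

/-- Adapted coordinates on the extraspecial subgroup. -/
structure Frame (E : Extra G) where
  e : Bool
  v : G
  c : G
  d : G
  vR : v ∈ E.R
  cR : c ∈ E.R
  dR : d ∈ E.R
  basis : Basis e E.z E.u v c d
  cT : ∀ t ∈ E.T, E.InU (t * c * t⁻¹ * c⁻¹)

variable [Finite G]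

/-- An involution centralizing the four-group and central in `T` modulo it gives a normal elementary subgroup of
order eight. -/
theorem eight_false {a : G} (haR : a ∈ E.R) (hau : a * E.u = E.u * a) (h2 : a * a = 1) (haU : ¬ E.InU a)
    (hcm : ∀ t ∈ E.T, E.InU (t * a * t⁻¹ * a⁻¹)) : False := by
  let F : Subgroup G :=
    { carrier := {g | ∃ i, E.InU i ∧ (g = i ∨ g = i * a)}
      one_mem' := ⟨1, Or.inl rfl, Or.inl rfl⟩
      mul_mem' := by
        rintro p q ⟨i, hi, hp⟩ ⟨j, hj, hq⟩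
        have hja : a * j = j * a := hj.comm_R (E.R_le haR) hau
        refine ⟨i * j, hi.mul hj, ?_⟩
        rcases hp with rfl | rfl <;> rcases hq with rfl | rfl
        · exact Or.inl rfl
        · exact Or.inr (mul_assoc _ _ _).symm
        · exact Or.inr (by rw [mul_assoc, hja, mul_assoc])
        · exact Or.inl (by rw [mul_assoc, ← mul_assoc a, hja, mul_assoc j, h2, mul_one])
      inv_mem' := by
        rintro p ⟨i, hi, hp⟩
        refine ⟨i, hi, ?_⟩
        rcases hp with rfl | rfl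
        · exact Or.inl hi.inv
        · exact Or.inr (by rw [mul_inv_rev, hi.inv, inv_eq_of_mul_eq_one_right h2, hi.comm_R (E.R_le haR) hau]) }
  have hFR : ∀ g ∈ F, g ∈ E.R ∧ g * g = 1 := by
    rintro g ⟨i, hi, rfl | rfl⟩
    · exact ⟨hi.mem, hi.sq⟩
    · exact ⟨E.R.mul_mem hi.mem haR, by
        rw [mul_assoc, ← mul_assoc a, hi.comm_R (E.R_le haR) hau, mul_assoc i, h2, mul_one, hi.sq]⟩
  refine E.noE8 F (fun g hg => E.R_le (hFR g hg).1) ⟨⟨⟨fun p q => Subtype.ext ?_⟩⟩, fun g hg => ?_⟩ ?_ ?_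
  · have h := inv_eq_of_mul_eq_one_right (hFR _ (F.mul_mem p.2 q.2)).2
    rw [mul_inv_rev, inv_eq_of_mul_eq_one_right (hFR _ p.2).2, inv_eq_of_mul_eq_one_right (hFR _ q.2).2] at h
    exact h.symm
  · rw [pow_two]; exact (hFR g hg).2
  · have hset : (F : Set G) = ({1, E.z, E.u, E.u * E.z} : Set G) ∪
        (fun i => i * a) '' ({1, E.z, E.u, E.u * E.z} : Set G) := by
      ext g
      constructor
      · rintro ⟨i, hi, rfl | rfl⟩
        exacts [Or.inl hi, Or.inr ⟨i, hi, rfl⟩]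
      · rintro (hg | ⟨i, hi, rfl⟩)
        exacts [⟨g, hg, Or.inl rfl⟩, ⟨i, hi, Or.inr rfl⟩]
    have h4 : ({1, E.z, E.u, E.u * E.z} : Set G).ncard = 4 := by
      have n1 : E.u * E.z ≠ 1 := fun h => E.uz ((eq_inv_of_mul_eq_one_left h).trans (inv_eq_of_mul_eq_one_right E.z2))
      have n2 : E.u * E.z ≠ E.z := fun h => E.u1 (mul_eq_right.1 h)
      have n3 : E.u * E.z ≠ E.u := fun h => E.z1 (mul_eq_left.1 h)
      rw [Set.ncard_insert_of_notMem (by simp [E.z1.symm, E.u1.symm, n1.symm]) (Set.toFinite _),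
        Set.ncard_insert_of_notMem (by simp [E.uz.symm, n2.symm]) (Set.toFinite _), Set.ncard_pair n3.symm]
    rw [show Nat.card ↥F = (F : Set G).ncard from Nat.card_coe_set_eq _, hset,
      Set.ncard_union_eq ?_ (Set.toFinite _) (Set.toFinite _),
      Set.ncard_image_of_injective _ (mul_left_injective a), h4]
    rw [Set.disjoint_left]
    rintro g (hg : E.InU g) ⟨i, hi, rfl⟩
    have := InU.mul (E := E) hi hg
    rw [← mul_assoc, InU.sq (E := E) hi, one_mul] at this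
    exact haU this
  · rintro t ht g ⟨i, hi, hg⟩
    rcases hg with rfl | rfl
    · exact ⟨_, hi.conj ht, Or.inl rfl⟩
    · refine ⟨t * i * t⁻¹ * (t * a * t⁻¹ * a⁻¹), (hi.conj ht).mul (hcm t ht), Or.inr ?_⟩
      group

theorem exists_c : ∃ c ∈ E.R, c * E.u = E.u * c ∧ c * c = E.z ∧ ¬ E.InU c ∧
    ∀ t ∈ E.T, E.InU (t * c * t⁻¹ * c⁻¹) := by
  classical
  haveI : Fact (Nat.Prime 2) := ⟨Nat.prime_two⟩
  let T' := (E.T : Subgroup G)
  let A : Subgroup ↥T' :=
    { carrier := {a | (a : G) ∈ E.R ∧ (a : G) * E.u = E.u * a}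
      one_mem' := ⟨E.R.one_mem, by simp⟩
      mul_mem' := fun {a b} ha hb => ⟨E.R.mul_mem ha.1 hb.1, by
        show (a : G) * b * E.u = E.u * ((a : G) * b)
        rw [mul_assoc, hb.2, ← mul_assoc, ha.2, mul_assoc]⟩
      inv_mem' := fun {a} ha => ⟨E.R.inv_mem ha.1, ((show Commute (a : G) E.u from ha.2).inv_left).eq⟩ }
  let U : Subgroup ↥T' :=
    { carrier := {a | E.InU (a : G)}
      one_mem' := Or.inl rfl
      mul_mem' := fun {a b} (ha : E.InU (a : G)) (hb : E.InU (b : G)) => ha.mul hb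
      inv_mem' := fun {a} (ha : E.InU (a : G)) => show E.InU ((a : G))⁻¹ by rw [ha.inv]; exact ha }
  haveI : U.Normal := ⟨fun a (ha : E.InU (a : G)) g => ha.conj g.2⟩
  haveI : A.Normal := ⟨fun a ha g => ⟨E.R_normal _ g.2 _ ha.1, by
    have h1 := congrArg (fun y => (g : G) * y * (g : G)⁻¹) ha.2
    simp only [Subgroup.coe_mul, InvMemClass.coe_inv] at h1 ⊢
    have key : ∀ w : G, (g : G) * E.u * (g : G)⁻¹ = w → (g : G) * a * (g : G)⁻¹ * w = w * ((g : G) * a * (g : G)⁻¹) := by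
      rintro w rfl; simpa [mul_assoc] using h1
    rcases E.hu g g.2 with k | k
    · exact key _ (by rw [k, mul_inv_cancel_right])
    · have h2 := key _ (show (g : G) * E.u * (g : G)⁻¹ = E.u * E.z by rw [k, mul_inv_cancel_right])
      have hz := E.hzc _ (T'.mul_mem (T'.mul_mem g.2 a.2) (T'.inv_mem g.2))
      simp only [← mul_assoc] at h2 hz ⊢
      refine mul_right_cancel (b := E.z) (h2.trans ?_)
      simp only [mul_assoc] at hz ⊢
      rw [hz]⟩⟩
  let π := QuotientGroup.mk' U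
  set N := A.map π with hN
  haveI : N.Normal := Subgroup.Normal.map inferInstance _ (QuotientGroup.mk'_surjective U)
  have hne : N ≠ ⊥ := by
    intro e0
    have hall : ∀ a ∈ E.R, a * E.u = E.u * a → E.InU a := fun a ha hau => by
      have h1 : π ⟨a, E.R_le ha⟩ ∈ N := ⟨_, ⟨ha, hau⟩, rfl⟩
      rw [e0, Subgroup.mem_bot] at h1
      exact (QuotientGroup.eq_one_iff _).1 h1
    obtain ⟨v0, hv0, hv0u⟩ : ∃ v0 ∈ E.R, v0 * E.u ≠ E.u * v0 := by
      by_contra hc
      push Not at hc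
      rcases E.R_center _ E.uR fun s hs => (hc s hs).symm with h | h
      exacts [E.u1 h, E.uz h]
    have hsub : (E.R : Set G) ⊆ ({1, E.z, E.u, E.u * E.z} : Set G) ∪ (fun a => v0 * a) '' {1, E.z, E.u, E.u * E.z} := by
      intro r hr
      by_cases h : r * E.u = E.u * r
      · exact Or.inl (hall r hr h)
      · refine Or.inr ⟨v0⁻¹ * r, hall _ (E.R.mul_mem (E.R.inv_mem hv0) hr) ?_, mul_inv_cancel_left v0 r⟩
        have e1 := (E.commute_or hr E.uR).resolve_left h
        have e2 := (E.commute_or hv0 E.uR).resolve_left hv0u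
        have e3 : E.u * v0⁻¹ = v0⁻¹ * (E.z * E.u) := by
          calc E.u * v0⁻¹ = v0⁻¹ * (v0 * E.u) * v0⁻¹ := by group
            _ = _ := by rw [e2]; group
        calc v0⁻¹ * r * E.u = v0⁻¹ * (r * E.u) := mul_assoc _ _ _
          _ = v0⁻¹ * (E.z * E.u) * r := by rw [e1]; group
          _ = E.u * (v0⁻¹ * r) := by rw [← e3, mul_assoc]
    have h1 := Set.ncard_le_ncard hsub (Set.toFinite _)
    rw [show (E.R : Set G).ncard = Nat.card ↥E.R from (Nat.card_coe_set_eq _).symm, E.R_card] at h1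
    have h2 := Set.ncard_union_le ({1, E.z, E.u, E.u * E.z} : Set G) ((fun a => v0 * a) '' {1, E.z, E.u, E.u * E.z})
    have h3 := Set.ncard_image_le (f := fun a => v0 * a) (s := ({1, E.z, E.u, E.u * E.z} : Set G)) (Set.toFinite _)
    have i1 := Set.ncard_insert_le (1 : G) {E.z, E.u, E.u * E.z}
    have i2 := Set.ncard_insert_le E.z {E.u, E.u * E.z}
    have i3 := Set.ncard_insert_le E.u {E.u * E.z}
    rw [Set.ncard_singleton] at i3
    omega
  haveI : Group.IsNilpotent (↥T' ⧸ U) := (E.T.isPGroup'.to_quotient U).isNilpotent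
  obtain ⟨w, ⟨hwN, hwc⟩, hw1⟩ := (Subgroup.bot_or_exists_ne_one _).resolve_left
    (Grp.inf_center_ne_bot N hne)
  obtain ⟨a, ⟨haR, hau⟩, rfl⟩ := hwN
  have haU : ¬ E.InU (a : G) := fun h => hw1 ((QuotientGroup.eq_one_iff a).2 h)
  have hcm : ∀ t ∈ E.T, E.InU (t * a * t⁻¹ * (a : G)⁻¹) := fun t ht =>
    show (⟨t, ht⟩ * a * (⟨t, ht⟩ : ↥T')⁻¹ * a⁻¹) ∈ U by
      rw [← QuotientGroup.eq_one_iff]
      show π (⟨t, ht⟩ * a * (⟨t, ht⟩ : ↥T')⁻¹ * a⁻¹) = 1
      rw [map_mul, map_mul, map_mul, map_inv, map_inv, Subgroup.mem_center_iff.1 hwc, mul_inv_cancel_right,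
        mul_inv_cancel]
  exact ⟨a, haR, hau, (E.R_sq a haR).resolve_left fun h2 => E.eight_false haR hau h2 haU hcm, haU, hcm⟩

theorem exists_frame : Nonempty E.Frame := by
  classical
  obtain ⟨c0, hc0R, hc0u, hc02, hc0U, hc0T⟩ := E.exists_c
  obtain ⟨v0, hv0R, hv0u⟩ : ∃ v0 ∈ E.R, v0 * E.u ≠ E.u * v0 := by
    by_contra hc
    push Not at hc
    rcases E.R_center _ E.uR fun s hs => (hc s hs).symm with h | h
    exacts [E.u1 h, E.uz h]
  obtain ⟨v, hvR, hv2, hvu⟩ : ∃ v ∈ E.R, v * v = 1 ∧ v * E.u = E.z * (E.u * v) := by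
    have h := (E.commute_or hv0R E.uR).resolve_left hv0u
    rcases E.R_sq v0 hv0R with h2 | h2
    · exact ⟨v0, hv0R, h2, h⟩
    · refine ⟨v0 * E.u, E.R.mul_mem hv0R E.uR, ?_, ?_⟩
      · have h' : E.u * v0 = E.z * (v0 * E.u) := by rw [h, ← mul_assoc, E.z2, one_mul]
        calc v0 * E.u * (v0 * E.u) = v0 * (E.u * v0) * E.u := by group
          _ = v0 * E.z * v0 * (E.u * E.u) := by rw [h']; group
          _ = E.z * (v0 * v0) := by rw [E.u2, mul_one, E.hzc v0 (E.R_le hv0R), mul_assoc]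
          _ = 1 := by rw [h2, E.z2]
      · have h' : E.u * v0 = E.z * (v0 * E.u) := by rw [h, ← mul_assoc, E.z2, one_mul]
        conv_lhs => rw [mul_assoc, E.u2, mul_one]
        rw [← mul_assoc E.u, h', mul_assoc E.z, mul_assoc v0, E.u2, mul_one, ← mul_assoc, E.z2, one_mul]
  have hzc := fun {r : G} (hr : r ∈ E.R) => E.hzc r (E.R_le hr)
  obtain ⟨c, hcR, hcu, hc2, hcv, hcT, hcU⟩ : ∃ c ∈ E.R, c * E.u = E.u * c ∧ c * c = E.z ∧ c * v = v * c ∧
      (∀ t ∈ E.T, E.InU (t * c * t⁻¹ * c⁻¹)) ∧ ¬ E.InU c := by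
    rcases E.commute_or hc0R hvR with h | h
    · exact ⟨c0, hc0R, hc0u, hc02, h, hc0T, hc0U⟩
    · refine ⟨E.u * c0, E.R.mul_mem E.uR hc0R, by rw [mul_assoc, hc0u], ?_, ?_, fun t ht => ?_, fun hU => hc0U ?_⟩
      · rw [mul_assoc, ← mul_assoc c0, hc0u, mul_assoc E.u c0, ← mul_assoc, E.u2, one_mul, hc02]
      · calc E.u * c0 * v = E.u * (c0 * v) := mul_assoc _ _ _
          _ = E.u * E.z * v * c0 := by rw [h]; group
          _ = E.z * (E.u * v) * c0 := by rw [E.zu]; group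
          _ = v * E.u * c0 := by rw [hvu]
          _ = _ := mul_assoc _ _ _
      · have hcu0 : t * E.u * t⁻¹ * E.u⁻¹ = t * E.u * t⁻¹ * E.u := by rw [inv_eq_of_mul_eq_one_right E.u2]
        have hU0 : E.InU (t * E.u * t⁻¹ * E.u⁻¹) := by
          rw [hcu0]
          exact (E.inU_u.conj ht).mul E.inU_u
        have h3 : E.InU (t * c0 * t⁻¹ * c0⁻¹) := hc0T t ht
        have hct : E.u * (t * c0 * t⁻¹ * c0⁻¹) = t * c0 * t⁻¹ * c0⁻¹ * E.u := h3.comm_R E.uT rfl
        rw [show t * (E.u * c0) * t⁻¹ * (E.u * c0)⁻¹ =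
          (t * E.u * t⁻¹ * E.u⁻¹) * (E.u * (t * c0 * t⁻¹ * c0⁻¹) * E.u⁻¹) by group, hct, mul_inv_cancel_right]
        exact hU0.mul h3
      · have := E.inU_u.mul hU
        rwa [← mul_assoc, E.u2, one_mul] at this
  obtain ⟨r, hrR, hrc⟩ : ∃ r ∈ E.R, c * r ≠ r * c := by
    by_contra hc'
    push Not at hc'
    rcases E.R_center c hcR hc' with h | h
    exacts [hcU (Or.inl h), hcU (Or.inr (Or.inl h))]
  have hrc' : r * c = E.z * (c * r) := (E.commute_or hrR hcR).resolve_left fun h => hrc h.symm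
  obtain ⟨r', hr'R, hr'u, hr'c⟩ : ∃ r' ∈ E.R, r' * E.u = E.u * r' ∧ r' * c = E.z * (c * r') := by
    rcases E.commute_or hrR E.uR with h | h
    · exact ⟨r, hrR, h, hrc'⟩
    · refine ⟨r * v, E.R.mul_mem hrR hvR, ?_, ?_⟩
      · calc r * v * E.u = r * (E.z * (E.u * v)) := by rw [mul_assoc, hvu]
          _ = E.z * (r * E.u) * v := by rw [← mul_assoc r E.z, hzc hrR]; group
          _ = E.z * E.z * E.u * r * v := by rw [h]; group
          _ = E.u * (r * v) := by rw [E.z2, one_mul, mul_assoc]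
      · rw [mul_assoc, ← hcv, ← mul_assoc, hrc']; group
  obtain ⟨d, hdR, hdu, hdc, hdv⟩ : ∃ d ∈ E.R, d * E.u = E.u * d ∧ d * c = E.z * (c * d) ∧ d * v = v * d := by
    rcases E.commute_or hr'R hvR with h | h
    · exact ⟨r', hr'R, hr'u, hr'c, h⟩
    · refine ⟨r' * E.u, E.R.mul_mem hr'R E.uR, by conv_rhs => rw [← mul_assoc, ← hr'u], ?_, ?_⟩
      · rw [mul_assoc, ← hcu, ← mul_assoc, hr'c]; group
      · have huv : E.u * v = E.z * (v * E.u) := by rw [hvu, ← mul_assoc, E.z2, one_mul]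
        calc r' * E.u * v = r' * (E.z * (v * E.u)) := by rw [mul_assoc, huv]
          _ = E.z * (r' * v) * E.u := by rw [← mul_assoc r' E.z, hzc hr'R]; group
          _ = E.z * E.z * v * (r' * E.u) := by rw [h]; group
          _ = v * (r' * E.u) := by rw [E.z2, one_mul]
  refine ⟨⟨decide (d * d = E.z), v, c, d, hvR, hcR, hdR, ?_, hcT⟩⟩
  refine ⟨E.z2, E.u2, hv2, hc2, ?_, E.zu, hzc hvR, hzc hcR, hzc hdR, hvu, hcu, hdu, hcv, hdv, hdc⟩
  by_cases h : d * d = E.z
  · simp [h]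
  · simp [h, (E.R_sq d hdR).resolve_right h]

end Extra

end Cfsg.Agent.Transfer.NoEightExtra
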