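import Cfsg.Agent.Lib.Transfer.NoEightExtra.TablesTwo

/-!
# Finite checks for the case with fusion in the four-group
-/

set_option autoImplicit false
set_option maxRecDepth 100000

namespace Cfsg.Agent.Transfer.NoEightExtra

/-- A transvection. -/
def isT (f : ℕ → ℕ) : Bool := isT1 f || isT2 f

/-- Two fixed codes do not commute. -/
def hasPair (e : Bool) (f : ℕ → ℕ) : Bool :=
  codes.any fun x => Nat.beq (f x) x && codes.any fun y => Nat.beq (f y) y && !commN e x y

/-- A map of order at most two with two fixed codes that do not commute. -/
def good (e : Bool) (f : ℕ → ℕ) : Bool := isId (fun n => f (f n)) && hasPair e f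

theorem first_table : ∀ e : Bool, ((autos e).all fun f => !isT (apN f) ||
    codes.any fun r => good e fun n => apN f (conjN e r n)) = true := by
  decide +kernel

theorem flip_table : ∀ e : Bool, ((autos e).all fun f => !(isT (apN f) && good e (apN f)) ||
    codes.any fun r => Nat.beq (mulN e (apN f r) r) 16 && good e fun n => apN f (conjN e r n)) = true := by
  decide +kernel

theorem pair_kind_table : ∀ e : Bool, ((autos e).all fun f => !(isT (apN f) && good e (apN f)) ||
    codes.any fun x => Nat.beq (apN f x) x && codes.any fun y =>
      Nat.beq (apN f y) y && !commN e x y && (sq1N e x == sq1N e y)) = true := by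
  decide +kernel

theorem count_table : ∀ e : Bool, ((autos e).all fun f =>
    isT (apN f) == Nat.beq ((codes.filter fun n => Nat.beq (vecN (apN f n)) (vecN n)).length) 16) = true := by
  decide +kernel

/-- An inner automorphism given by an involution fixed by `a`. -/
def innerBy (e : Bool) (a : ℕ) (f : ℕ → ℕ) : Bool :=
  codes.any fun r => Nat.beq (apN a r) r && sq1N e r && eqG f (conjN e r)

theorem four_table : ∀ e : Bool, ((autos e).all fun a => !(isT (apN a) && isInvol a) ||
    codes.all fun x => !Nat.beq (apN a x) x || codes.all fun y => !Nat.beq (apN a y) y || commN e x y ||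
      (autos e).all fun b => !Nat.beq (apN b x) x || !Nat.beq (apN b y) y || !isInvol b ||
        !eqG (fun n => apN a (apN b n)) (fun n => apN b (apN a n)) || isId (apN b) || eqG (apN b) (apN a) ||
        (isInner (apN b) && !innerBy e a (apN b)) ||
        (isInner (fun n => apN a (apN b n)) && !innerBy e a fun n => apN a (apN b n))) = true := by
  decide +kernel

/-- The commutator of two involutory automorphisms. -/
def commInv (a b n : ℕ) : ℕ := apN a (apN b (apN a (apN b n)))

/-- The possible commutators of two involutions in the centralizer of an involution. -/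
def commCase (e : Bool) (m : ℕ) (w : ℕ → ℕ) : Bool :=
  (codes.any fun r => eqG w (conjN e r) || eqG w fun n => conjN e r (apN m n)) &&
  codes.all fun r => !(sq1N e r && Nat.beq (apN m r) r) ||
    ((!eqG w (conjN e r) || (Nat.beq (vecN r) 1 && Nat.beq (apN m 1) 1)) &&
      (!eqG w (fun n => conjN e r (apN m n)) || Nat.beq r 0 ||
        codes.any fun s => Nat.beq (apN m s) (mulN e s r)))

theorem involution_table : ∀ e : Bool, ((autos e).all fun m =>
    !(isInvol m && isK (apN m) && !isInner (apN m)) ||
    (autos e).all fun a => !(isInvol a && eqG (fun n => apN a (apN m n)) fun n => apN m (apN a n)) ||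
      (autos e).all fun b => !(isInvol b && eqG (fun n => apN b (apN m n)) fun n => apN m (apN b n)) ||
        isId (commInv a b) || commCase e m (commInv a b)) = true := by
  decide +kernel

theorem quaternion_table : ∀ e : Bool, ((autos e).all fun m =>
    !(isInvol m && isK (apN m) && !isInner (apN m)) ||
    (autos e).all fun a => isInvol a || !(eqG (fun n => apN a (apN m n)) fun n => apN m (apN a n)) ||
      !isId (fun n => apN a (apN a (apN a (apN a n)))) ||
      (autos e).all fun b => !(eqG (fun n => apN b (apN m n)) fun n => apN m (apN b n)) ||
        !eqG (fun n => apN b (apN b n)) (fun n => apN a (apN a n)) ||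
        !eqG (fun n => apN a (apN b n)) (fun n => apN a (apN a (apN b (apN a n))))) = true := by
  decide +kernel

end Cfsg.Agent.Transfer.NoEightExtra
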