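import Cfsg.Agent.Lib.Transfer.NoEightExtra.Orbit
import Cfsg.Agent.Lib.Transfer.NoEightExtra.TablesOne

/-!
# Fusion in the four-group: the maximal subgroup of the shears

If some element `g` preserves `C_T(u)` and moves `z`, then the conjugate by `g` of `C_R(u)` supplies all four classes
of automorphisms acting trivially on `C_R(u)` modulo the four-group; so their elements form a maximal subgroup of `T`
and some transvection is induced by `T`.
-/

set_option autoImplicit false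
set_option linter.style.haveILetI false
set_option linter.unusedSectionVars false
set_option maxRecDepth 100000

namespace Cfsg.Agent.Transfer.NoEightExtra

open Subgroup

/-- The label of a shear. -/
def lab (f : ℕ → ℕ) : ℕ := Nat.land (f 4) 1 + 2 * Nat.land (f 8) 1

theorem lab_table : ∀ e : Bool, ((autos e).all fun f => (!isK (apN f) ||
    (autos e).all fun g => !(isK (apN g) && Nat.beq (lab (apN f)) (lab (apN g))) ||
      isInner (fun n => apN f (apN g n))) &&
    (!isC e (apN f) || (List.range 4).any fun l =>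
      (autos e).all fun g => !(isK (apN g) && Nat.beq (lab (apN g)) l) || isT (fun n => apN f (apN g n))) &&
    !((isT (apN f) || isC e (apN f)) && isK (apN f))) = true := by
  decide +kernel

theorem k_id : isK id = true := by decide

theorem isK_congr {f g : ℕ → ℕ} (h : eqG f g = true) : isK f = isK g := by
  obtain ⟨a, -, c, d⟩ := Extra.eqG_spec h
  simp [isK, a, c, d]

theorem isT_congr {f g : ℕ → ℕ} (h : eqG f g = true) : isT f = isT g := by
  obtain ⟨a, b, c, d⟩ := Extra.eqG_spec h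
  simp [isT, isT1, isT2, hasVec, a, b, c, d]

theorem lab_lt (f : ℕ → ℕ) : lab f < 4 := by
  have h1 : Nat.land (f 4) 1 ≤ 1 := Nat.and_le_right
  have h2 : Nat.land (f 8) 1 ≤ 1 := Nat.and_le_right
  unfold lab; omega

namespace Extra

variable {G : Type*} [Group G] [Finite G] (E : Extra G)

/-- Conjugation by `g` maps the centralizer of `u` in `T` to itself. -/
def Pres (g : G) : Prop := ∀ t ∈ E.T, t * E.u = E.u * t →
  g * t * g⁻¹ ∈ E.T ∧ g * t * g⁻¹ * E.u = E.u * (g * t * g⁻¹)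

theorem x_coset {t : G} (ht : t ∈ E.T) (hn : ¬ t * E.u = E.u * t) :
    E.x⁻¹ * t * E.u = E.u * (E.x⁻¹ * t) := by
  have h1 := (E.hu t ht).resolve_left hn
  calc E.x⁻¹ * t * E.u = E.x⁻¹ * (E.u * E.z * E.x) * E.x⁻¹ * t := by rw [mul_assoc, h1]; group
    _ = E.x⁻¹ * (E.x * E.u) * E.x⁻¹ * t := by rw [E.xu]
    _ = _ := by group

/-- The involutions central in the centralizer of `u` in `T` form the four-group. -/
theorem central_inU {a : G} (ha : a ∈ E.T) (hau : a * E.u = E.u * a) (h2 : a * a = 1)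
    (hc : ∀ t ∈ E.T, t * E.u = E.u * t → t * a = a * t) : E.InU a := by
  have hT := (E.T : Subgroup G)
  have hxn : ∀ t ∈ E.T, t * E.u = E.u * t → E.x⁻¹ * t * E.x ∈ E.T ∧
      E.x⁻¹ * t * E.x * E.u = E.u * (E.x⁻¹ * t * E.x) := by
    intro t ht htu
    refine ⟨(E.T : Subgroup G).mul_mem ((E.T : Subgroup G).mul_mem ((E.T : Subgroup G).inv_mem E.xT) ht) E.xT, ?_⟩
    calc E.x⁻¹ * t * E.x * E.u = E.x⁻¹ * (t * (E.u * E.z)) * E.x := by rw [mul_assoc, E.xu]; group
      _ = E.x⁻¹ * (E.u * E.z) * t * E.x := by rw [← mul_assoc t, htu, mul_assoc E.u, E.hzc t ht]; group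
      _ = E.x⁻¹ * (E.u * E.z * E.x) * (E.x⁻¹ * t * E.x) := by group
      _ = _ := by rw [← E.xu]; group
  obtain ⟨a', ha'⟩ : ∃ a', a' = E.x * a * E.x⁻¹ := ⟨_, rfl⟩
  have ha'T : a' ∈ E.T := ha' ▸
    (E.T : Subgroup G).mul_mem ((E.T : Subgroup G).mul_mem E.xT ha) ((E.T : Subgroup G).inv_mem E.xT)
  have ha'c : ∀ t ∈ E.T, t * E.u = E.u * t → t * a' = a' * t := by
    intro t ht htu
    obtain ⟨h1, h1'⟩ := hxn t ht htu
    have := congrArg (fun w => E.x * w * E.x⁻¹) (hc _ h1 h1')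
    simpa [ha', mul_assoc] using this
  have haa' : a * a' = a' * a := ha'c a ha hau
  have hxx : E.x * E.x * a * (E.x * E.x)⁻¹ = a := by
    rw [hc _ ((E.T : Subgroup G).mul_mem E.xT E.xT) (by
      rw [mul_assoc, E.xu, ← mul_assoc, ← mul_assoc, E.xu, mul_assoc (E.u * E.z), E.hzc _ E.xT, ← mul_assoc,
        mul_assoc E.u, E.z2, mul_one, mul_assoc]), mul_inv_cancel_right]
  obtain ⟨d, hd⟩ : ∃ d, d = a' * a := ⟨_, rfl⟩
  have hdT : d ∈ E.T := hd ▸ (E.T : Subgroup G).mul_mem ha'T ha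
  have hd2 : d * d = 1 := by
    have h2' : a' * a' = 1 := by
      rw [ha', show E.x * a * E.x⁻¹ * (E.x * a * E.x⁻¹) = E.x * (a * a) * E.x⁻¹ by group, h2]
      group
    calc d * d = a' * (a * a') * a := by rw [hd]; group
      _ = a' * a' * (a * a) := by rw [haa']; group
      _ = 1 := by rw [h2', h2, one_mul]
  have hdx : E.x * d * E.x⁻¹ = d := by
    calc E.x * d * E.x⁻¹ = (E.x * E.x * a * (E.x * E.x)⁻¹) * (E.x * a * E.x⁻¹) := by rw [hd, ha']; group
      _ = _ := by rw [hxx, ← ha', haa', hd]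
  have hd0 : ∀ t ∈ E.T, t * E.u = E.u * t → t * d = d * t := fun t ht htu => by
    rw [hd, ← mul_assoc, ha'c t ht htu, mul_assoc, hc t ht htu, mul_assoc]
  have hdc : ∀ t ∈ E.T, t * d * t⁻¹ = d := by
    intro t ht
    by_cases h : t * E.u = E.u * t
    · rw [hd0 t ht h, mul_inv_cancel_right]
    · have h1 := hd0 _ ((E.T : Subgroup G).mul_mem ((E.T : Subgroup G).inv_mem E.xT) ht) (E.x_coset ht h)
      calc t * d * t⁻¹ = E.x * ((E.x⁻¹ * t) * d * (E.x⁻¹ * t)⁻¹) * E.x⁻¹ := by group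
        _ = _ := by rw [h1, mul_inv_cancel_right, hdx]
  have hdz : d = 1 ∨ d = E.z := by
    have hx : E.x * d = d * E.x := mul_inv_eq_iff_eq_mul.1 hdx
    rcases E.oneFour d hdT hd2 (fun t ht => Or.inl (hdc t ht)) with h | h | h | h
    · exact Or.inl h
    · exact Or.inr h
    · rw [h, E.xu] at hx
      exact absurd (mul_eq_left.1 (mul_right_cancel hx)) E.z1
    · rw [h, ← mul_assoc, E.xu, mul_assoc (E.u * E.z), E.hzc _ E.xT, ← mul_assoc, mul_assoc E.u, E.z2, mul_one]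
        at hx
      exact absurd (left_eq_mul.1 (mul_right_cancel hx)) E.z1
  refine E.oneFour a ha h2 fun t ht => ?_
  by_cases h : t * E.u = E.u * t
  · exact Or.inl (by rw [hc t ht h, mul_inv_cancel_right])
  · have h1 := hc _ ((E.T : Subgroup G).mul_mem ((E.T : Subgroup G).inv_mem E.xT) ht) (E.x_coset ht h)
    have e : t * a * t⁻¹ = a' := by
      calc t * a * t⁻¹ = E.x * ((E.x⁻¹ * t) * a * (E.x⁻¹ * t)⁻¹) * E.x⁻¹ := by group
        _ = _ := by rw [h1, mul_inv_cancel_right, ha']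
    have e2 : a' = d * a := by rw [hd, mul_assoc, h2, mul_one]
    rcases hdz with k | k
    · exact Or.inl (by rw [e, e2, k, one_mul])
    · exact Or.inr (by rw [e, e2, k, E.hzc a ha])

variable {E}

theorem InU.mem_T0 {a : G} (h : E.InU a) : a ∈ E.T ∧ a * E.u = E.u * a :=
  ⟨E.R_le h.mem, (h.comm_R E.uT rfl).symm⟩

/-- An element preserving the centralizer of `u` in `T` normalizes the four-group. -/
theorem Pres.inU {g : G} (hg : E.Pres g) (hg' : E.Pres g⁻¹) {a : G} (h : E.InU a) : E.InU (g * a * g⁻¹) := by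
  obtain ⟨ha, hau⟩ := h.mem_T0
  obtain ⟨h1, h2⟩ := hg a ha hau
  refine E.central_inU h1 h2 ?_ fun t ht htu => ?_
  · rw [show g * a * g⁻¹ * (g * a * g⁻¹) = g * (a * a) * g⁻¹ by group, h.sq]; group
  · obtain ⟨h3, h4⟩ := hg' t ht htu
    have := congrArg (fun w => g * w * g⁻¹) (h.comm_R h3 h4)
    simpa [mul_assoc] using this

variable (E)

/-- The part of the extraspecial subgroup centralizing `u`. -/
def rad0 : Subgroup G := E.R ⊓ centralizer ({E.u} : Set G)

theorem mem_rad0 {a : G} : a ∈ E.rad0 ↔ a ∈ E.R ∧ a * E.u = E.u * a :=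
  ⟨fun h => ⟨h.1, mem_centralizer_singleton_iff.1 h.2⟩, fun h => ⟨h.1, mem_centralizer_singleton_iff.2 h.2⟩⟩

theorem comm16_table : ∀ e : Bool, Nat.beq (codes.filter fun n => commN e n 1).length 16 = true ∧
    (codes.filter fun n => commN e n 1).Nodup ∧
    ((codes.filter fun n => commN e n 1).contains 4) = true := by
  decide +kernel

theorem card_rad0 : Nat.card ↥E.rad0 = 16 := by
  classical
  obtain ⟨F⟩ := E.exists_frame
  have t := comm16_table F.e
  have hset : (E.rad0 : Set G) = F.φ '' ↑(codes.filter fun n => commN F.e n 1).toFinset := by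
    ext a
    simp only [SetLike.mem_coe, E.mem_rad0, Set.mem_image, List.coe_toFinset, Set.mem_ofPred_eq, List.mem_filter]
    constructor
    · rintro ⟨haR, hau⟩
      obtain ⟨n, hn, rfl⟩ := F.surj haR
      exact ⟨n, ⟨mem_codes.2 hn, (F.commN_iff hn (by norm_num)).2 (by rw [F.φ_u]; exact hau)⟩, rfl⟩
    · rintro ⟨n, ⟨hn, hc⟩, rfl⟩
      have h := (F.commN_iff (mem_codes.1 hn) (by norm_num)).1 hc
      rw [F.φ_u] at h
      exact ⟨F.φ_mem n, h⟩
  show Nat.card ↥(E.rad0 : Set G) = 16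
  rw [Nat.card_coe_set_eq, hset, Set.InjOn.ncard_image, Set.ncard_coe_finset, List.toFinset_card_of_nodup t.2.1,
    beq_eq t.1]
  intro a ha b hb h
  simp only [List.coe_toFinset, Set.mem_ofPred_eq, List.mem_filter] at ha hb
  exact F.φ_inj (mem_codes.1 ha.1) (mem_codes.1 hb.1) h

theorem ncard_four : ({1, E.z, E.u, E.u * E.z} : Set G).ncard = 4 := by
  have n1 : E.u * E.z ≠ 1 := fun h => E.uz ((eq_inv_of_mul_eq_one_left h).trans (inv_eq_of_mul_eq_one_right E.z2))
  have n2 : E.u * E.z ≠ E.z := fun h => E.u1 (mul_eq_right.1 h)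
  have n3 : E.u * E.z ≠ E.u := fun h => E.z1 (mul_eq_left.1 h)
  rw [Set.ncard_insert_of_notMem (by simp [E.z1.symm, E.u1.symm, n1.symm]) (Set.toFinite _),
    Set.ncard_insert_of_notMem (by simp [E.uz.symm, n2.symm]) (Set.toFinite _), Set.ncard_pair n3.symm]

variable {E} {g : G}

theorem Pres.map_rad0 (hg : E.Pres g) {b : G} (hb : b ∈ E.rad0.map (MulAut.conj g).toMonoidHom) :
    b ∈ E.T ∧ b * E.u = E.u * b := by
  obtain ⟨a, ha, rfl⟩ := hb
  obtain ⟨haR, hau⟩ := E.mem_rad0.1 ha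
  simpa using hg a (E.R_le haR) hau

theorem Pres.map_normal (hg : E.Pres g) (hg' : E.Pres g⁻¹) {b t : G}
    (hb : b ∈ E.rad0.map (MulAut.conj g).toMonoidHom) (ht : t ∈ E.T) (htu : t * E.u = E.u * t) :
    t * b * t⁻¹ ∈ E.rad0.map (MulAut.conj g).toMonoidHom := by
  obtain ⟨a, ha, rfl⟩ := hb
  obtain ⟨haR, hau⟩ := E.mem_rad0.1 ha
  obtain ⟨h1, h2⟩ := hg' t ht htu
  rw [inv_inv] at h1 h2
  refine ⟨(g⁻¹ * t * g) * a * (g⁻¹ * t * g)⁻¹, E.mem_rad0.2 ⟨E.R_normal _ h1 _ haR, ?_⟩, by simp [mul_assoc]⟩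
  have hh : Commute (g⁻¹ * t * g) E.u := h2
  exact ((hh.mul_left hau).mul_left hh.inv_left).eq

/-- The two radicals meet in the four-group. -/
theorem Pres.meet (hg : E.Pres g) (hg' : E.Pres g⁻¹) (hz : g * E.z * g⁻¹ ≠ E.z) {b : G}
    (hb : b ∈ E.rad0.map (MulAut.conj g).toMonoidHom) (hbR : b ∈ E.R) : E.InU b := by
  classical
  haveI : Fact (Nat.Prime 2) := ⟨Nat.prime_two⟩
  by_contra hbU
  set F := E.rad0 ⊓ E.rad0.map (MulAut.conj g).toMonoidHom with hF
  have hbF : b ∈ F := ⟨E.mem_rad0.2 ⟨hbR, (hg.map_rad0 hb).2⟩, hb⟩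
  have hsq : ∀ a ∈ F, a * a = 1 := by
    rintro a ⟨ha, ⟨a', ha', rfl⟩⟩
    rcases E.R_sq _ (E.mem_rad0.1 ha).1 with h | h
    · exact h
    rcases E.R_sq _ (E.mem_rad0.1 ha').1 with h' | h'
    · rw [← map_mul, h', map_one]
    · exfalso
      rw [← map_mul, h'] at h
      exact hz (by simpa using h)
  have hcomm : ∀ a ∈ F, ∀ a' ∈ F, a * a' = a' * a := fun a ha a' ha' => by
    have h := inv_eq_of_mul_eq_one_right (hsq _ (F.mul_mem ha ha'))
    rw [mul_inv_rev, inv_eq_of_mul_eq_one_right (hsq _ ha), inv_eq_of_mul_eq_one_right (hsq _ ha')] at h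
    exact h.symm
  have hUF : ∀ a, E.InU a → a ∈ F := fun a ha => by
    refine ⟨E.mem_rad0.2 ⟨ha.mem, ha.mem_T0.2⟩, g⁻¹ * a * g, ?_, by simp [mul_assoc]⟩
    have h := Pres.inU hg' (by rwa [inv_inv]) ha
    rw [inv_inv] at h
    exact E.mem_rad0.2 ⟨h.mem, h.mem_T0.2⟩
  have hFT : F ≤ (E.T : Subgroup G) := fun a ha => E.R_le (E.mem_rad0.1 ha.1).1
  have hd : Nat.card ↥F ∣ 2 ^ 4 := by
    have := card_dvd_of_le (inf_le_left : F ≤ E.rad0)
    rwa [E.card_rad0] at this
  obtain ⟨j, hj, hjc⟩ := (Nat.dvd_prime_pow Nat.prime_two).1 hd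
  have h5 : 5 ≤ Nat.card ↥F := by
    rw [show Nat.card ↥F = (F : Set G).ncard from Nat.card_coe_set_eq _]
    refine le_trans ?_ (Set.ncard_le_ncard (Set.insert_subset hbF
      (show ({1, E.z, E.u, E.u * E.z} : Set G) ⊆ F from fun a ha => hUF a ha)) (Set.toFinite _))
    rw [Set.ncard_insert_of_notMem (show b ∉ ({1, E.z, E.u, E.u * E.z} : Set G) from hbU) (Set.toFinite _),
      E.ncard_four]
  have h16 : Nat.card ↥F ≠ 16 := fun h => by
    obtain ⟨Fr⟩ := E.exists_frame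
    have hFA : F = E.rad0 := eq_of_le_of_card_ge inf_le_left (by rw [h, E.card_rad0])
    have hcF : Fr.c ∈ F := by rw [hFA]; exact E.mem_rad0.2 ⟨Fr.cR, Fr.basis.cu⟩
    have := hsq _ hcF
    rw [Fr.basis.c2] at this
    exact E.z1 this
  have h8 : Nat.card ↥F = 8 := by
    interval_cases j <;> omega
  refine E.noE8 F hFT ⟨⟨⟨fun p q => Subtype.ext (hcomm _ p.2 _ q.2)⟩⟩, fun a ha => by
    rw [pow_two]; exact hsq a ha⟩ h8 fun t ht a ha => ?_
  have key0 : ∀ s ∈ E.T, s * E.u = E.u * s → s * a * s⁻¹ ∈ F := fun s hs hsu =>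
    ⟨E.mem_rad0.2 ⟨E.R_normal s hs a (E.mem_rad0.1 ha.1).1, ((show Commute s E.u from hsu).mul_left
      (show Commute a E.u from (E.mem_rad0.1 ha.1).2) |>.mul_left (show Commute s E.u from hsu).inv_left).eq⟩,
      hg.map_normal hg' ha.2 hs hsu⟩
  by_cases htu : t * E.u = E.u * t
  · exact key0 t ht htu
  -- an element of the extraspecial subgroup outside the centralizer of `u`
  obtain ⟨Fr⟩ := E.exists_frame
  have hv : Fr.v ∈ E.R := Fr.vR
  have hvu : ¬ Fr.v * E.u = E.u * Fr.v := fun h => by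
    rw [Fr.basis.vu] at h
    exact E.z1 (mul_eq_right.1 h)
  have hs : Fr.v⁻¹ * t ∈ E.T := (E.T : Subgroup G).mul_mem ((E.T : Subgroup G).inv_mem (E.R_le hv)) ht
  have hsu : Fr.v⁻¹ * t * E.u = E.u * (Fr.v⁻¹ * t) := by
    have e1 := (E.hu _ (E.R_le hv)).resolve_left hvu
    calc Fr.v⁻¹ * t * E.u = Fr.v⁻¹ * (E.u * E.z * Fr.v) * Fr.v⁻¹ * t := by
          rw [mul_assoc, (E.hu t ht).resolve_left htu]; group
      _ = Fr.v⁻¹ * (Fr.v * E.u) * Fr.v⁻¹ * t := by rw [e1]
      _ = _ := by group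
  have h1 := key0 _ hs hsu
  rcases E.R_comm Fr.v hv _ (E.mem_rad0.1 h1.1).1 with h | h
  · rw [show t * a * t⁻¹ = Fr.v * ((Fr.v⁻¹ * t) * a * (Fr.v⁻¹ * t)⁻¹) * Fr.v⁻¹ by group,
      mul_inv_eq_one.1 h]
    exact h1
  · rw [show t * a * t⁻¹ = Fr.v * ((Fr.v⁻¹ * t) * a * (Fr.v⁻¹ * t)⁻¹) * Fr.v⁻¹ by group,
      mul_inv_eq_iff_eq_mul.1 h]
    exact F.mul_mem (hUF _ (Or.inr (Or.inl rfl))) h1

variable (F : E.Frame)

/-- The conjugate radical consists of shears. -/
theorem Pres.shear (hg : E.Pres g) (hg' : E.Pres g⁻¹) (hz : g * E.z * g⁻¹ ≠ E.z) {b : G}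
    (hb : b ∈ E.rad0.map (MulAut.conj g).toMonoidHom) {f : ℕ} (hf : F.Rep b f) : isK (apN f) = true := by
  obtain ⟨hbT, hbu⟩ := hg.map_rad0 hb
  have h1 : apN f 1 = 1 := hf.u_iff.2 hbu
  have key : ∀ n < 32, commN F.e n 1 = true →
      vecN (apN f n) = vecN n ∨ vecN (apN f n) = Nat.xor (vecN n) 1 := by
    intro n hn hc
    have hnu : F.φ n * E.u = E.u * F.φ n := by rw [← F.φ_u]; exact (F.commN_iff hn (by norm_num)).1 hc
    have hR : b * F.φ n * b⁻¹ * (F.φ n)⁻¹ ∈ E.R :=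
      E.R.mul_mem (E.R_normal b hbT _ (F.φ_mem n)) (E.R.inv_mem (F.φ_mem n))
    have hB : b * F.φ n * b⁻¹ * (F.φ n)⁻¹ ∈ E.rad0.map (MulAut.conj g).toMonoidHom := by
      rw [show b * F.φ n * b⁻¹ * (F.φ n)⁻¹ = b * (F.φ n * b⁻¹ * (F.φ n)⁻¹) by group]
      exact Subgroup.mul_mem _ hb (hg.map_normal hg' (Subgroup.inv_mem _ hb) (F.φ_T n) hnu)
    obtain ⟨i, hi, hie⟩ := F.inU_code (hg.meet hg' hz hB hR)
    have hi32 : i < 32 := by simp at hi; omega
    have he : apN f n = mulN F.e i n := hf.apply_eq hn (mulN_lt hi32 hn) (by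
      rw [F.φ_mul hi32 hn, hie]; group)
    rw [he, (vecN_mul hi32 hn).1]
    simp only [List.mem_cons, List.mem_nil_iff, or_false] at hi
    rcases hi with rfl | rfl | rfl | rfl
    · exact Or.inl (Nat.zero_xor _)
    · exact Or.inl (Nat.zero_xor _)
    · exact Or.inr (Nat.xor_comm _ _)
    · exact Or.inr (Nat.xor_comm _ _)
  have c4 : commN F.e 4 1 = true := by cases F.e <;> decide +kernel
  have c8 : commN F.e 8 1 = true := by cases F.e <;> decide +kernel
  simp only [isK, List.all_cons, List.all_nil, Bool.and_true, Bool.and_eq_true, Bool.or_eq_true, beq_iff]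
  exact ⟨Or.inl (by rw [h1]; rfl), key 4 (by norm_num) c4, key 8 (by norm_num) c8⟩

variable {F}

theorem Frame.Rep.kinv {t : G} {f f' : ℕ} (hf : F.Rep t f) (hf' : F.Rep t⁻¹ f') :
    isK (apN f') = isK (apN f) := by
  have h := tab_all (tab_all (kclosed_table F.e) hf'.1) hf.1
  rw [beq_iff_eq] at h
  have e : isK (fun n => apN f' (apN f n)) = true := by
    rw [isK_congr (g := id) (eqG_of fun n hn => F.φ_inj (hf'.lt (hf.lt hn)) hn ?_)]
    · exact k_id
    · rw [← hf'.mul hf hn]; group; rfl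
  rw [e] at h
  cases h1 : isK (apN f') <;> cases h2 : isK (apN f) <;> simp_all

theorem Frame.Rep.kmul {t s : G} {f f' k : ℕ} (hf : F.Rep t f) (hf' : F.Rep s f') (hk : F.Rep (t * s) k) :
    isK (apN k) = (isK (apN f) == isK (apN f')) := by
  have h := tab_all (tab_all (kclosed_table F.e) hf.1) hf'.1
  rw [beq_iff_eq] at h
  rw [← h]
  exact isK_congr (eqG_of fun n hn => hf.comp hf' hk hn)

variable (F)

/-- Every label occurs in the conjugate radical. -/
theorem Pres.label (hg : E.Pres g) (hg' : E.Pres g⁻¹) (hz : g * E.z * g⁻¹ ≠ E.z) {l : ℕ} (hl : l < 4) :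
    ∃ b ∈ E.rad0.map (MulAut.conj g).toMonoidHom, ∃ f, F.Rep b f ∧ lab (apN f) = l := by
  classical
  haveI : Fintype G := Fintype.ofFinite G
  set B := E.rad0.map (MulAut.conj g).toMonoidHom with hB
  have hrep : ∀ b : ↥B, ∃ f, F.Rep (b : G) f := fun b => F.exists_rep (hg.map_rad0 b.2).1
  choose r hr using hrep
  let L : ↥B → ℕ := fun b => lab (apN (r b))
  have hfib : ∀ m ∈ Finset.univ.image L, (Finset.univ.filter fun b => L b = m).card ≤ 4 := by
    intro m hm
    obtain ⟨b0, -, rfl⟩ := Finset.mem_image.1 hm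
    have hsub : ∀ b, L b = L b0 → E.InU (((b0 : G))⁻¹ * b) := by
      intro b hb
      refine hg.meet hg' hz (B.mul_mem (B.inv_mem b0.2) b.2) ?_
      obtain ⟨f', hf'⟩ := F.exists_rep ((E.T : Subgroup G).inv_mem (hg.map_rad0 b0.2).1)
      obtain ⟨k, hk⟩ := F.exists_rep
        ((E.T : Subgroup G).mul_mem (hg.map_rad0 b0.2).1 (hg.map_rad0 b.2).1)
      have hk0 := hg.shear F hg' hz b0.2 (hr b0)
      have h := tab_all (lab_table F.e) (hr b0).1
      simp only [hk0, Bool.not_true, Bool.false_or, Bool.and_eq_true] at h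
      have h1 := tab_all h.1.1 (hr b).1
      have hb' : lab (apN (r b)) = lab (apN (r b0)) := hb
      simp only [hg.shear F hg' hz b.2 (hr b), hb', beq_self, Bool.and_self, Bool.not_true, Bool.false_or] at h1
      have hR : (b0 : G) * b ∈ E.R := hk.mem_R ((E.T : Subgroup G).mul_mem (hg.map_rad0 b0.2).1 (hg.map_rad0 b.2).1)
        (by rw [← h1]; simp [isInner, gensN, (hr b0).comp (hr b) hk])
      have h2 := tab_all h.1.1 (hr b0).1
      simp only [hk0, beq_self, Bool.and_self, Bool.not_true, Bool.false_or] at h2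
      obtain ⟨k2, hk2⟩ := F.exists_rep ((E.T : Subgroup G).mul_mem (hg.map_rad0 b0.2).1 (hg.map_rad0 b0.2).1)
      have hR2 : (b0 : G) * b0 ∈ E.R := hk2.mem_R ((E.T : Subgroup G).mul_mem (hg.map_rad0 b0.2).1 (hg.map_rad0 b0.2).1)
        (by rw [← h2]; simp [isInner, gensN, (hr b0).comp (hr b0) hk2])
      have := E.R.mul_mem (E.R.inv_mem hR2) hR
      rwa [show ((b0 : G) * b0)⁻¹ * ((b0 : G) * b) = (b0 : G)⁻¹ * b by group] at this
    have hle : (Finset.univ.filter fun b => L b = L b0).card ≤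
        ({1, E.z, E.u, E.u * E.z} : Set G).toFinset.card := by
      refine Finset.card_le_card_of_injOn (fun b : ↥B => (b0 : G)⁻¹ * (b : G)) (fun b hb => ?_) fun a _ b _ h =>
        Subtype.ext (mul_left_cancel h)
      rw [Finset.mem_coe, Finset.mem_filter] at hb
      rw [Finset.mem_coe, Set.mem_toFinset]
      exact hsub b hb.2
    rwa [← Set.ncard_eq_toFinset_card', E.ncard_four] at hle
  have hcardB : Fintype.card ↥B = 16 := by
    rw [← Nat.card_eq_fintype_card, hB, card_map_of_injective (f := (MulAut.conj g).toMonoidHom)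
      (MulAut.conj g).injective, E.card_rad0]
  by_contra hno
  push Not at hno
  have him : Finset.univ.image L ⊆ (Finset.range 4).erase l := by
    intro m hm
    obtain ⟨b, -, rfl⟩ := Finset.mem_image.1 hm
    exact Finset.mem_erase.2 ⟨hno b b.2 _ (hr b), Finset.mem_range.2 (lab_lt _)⟩
  have h1 := Finset.card_le_mul_card_image Finset.univ 4 hfib
  have h2 := Finset.card_le_card him
  rw [Finset.card_erase_of_mem (Finset.mem_range.2 hl), Finset.card_range] at h2
  rw [Finset.card_univ, hcardB] at h1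
  omega

/-- A shear of `T` centralizing `u` is a product of the two radicals. -/
theorem Pres.factor (hg : E.Pres g) (hg' : E.Pres g⁻¹) (hz : g * E.z * g⁻¹ ≠ E.z) {t : G} (ht : t ∈ E.T)
    (htu : t * E.u = E.u * t) {f : ℕ} (hf : F.Rep t f) (hK : isK (apN f) = true) :
    ∃ b ∈ E.rad0.map (MulAut.conj g).toMonoidHom, b * t ∈ E.rad0 := by
  obtain ⟨b, hb, k, hk, hkl⟩ := hg.label F hg' hz (lab_lt (apN f))
  obtain ⟨hbT, hbu⟩ := hg.map_rad0 hb
  obtain ⟨m, hm⟩ := F.exists_rep ((E.T : Subgroup G).mul_mem hbT ht)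
  have h := tab_all (lab_table F.e) hk.1
  simp only [hg.shear F hg' hz hb hk, Bool.not_true, Bool.false_or, Bool.and_eq_true] at h
  have h1 := tab_all h.1.1 hf.1
  simp only [hK, hkl, beq_self, Bool.and_self, Bool.not_true, Bool.false_or] at h1
  refine ⟨b, hb, E.mem_rad0.2 ⟨hm.mem_R ((E.T : Subgroup G).mul_mem hbT ht)
    (by rw [← h1]; simp [isInner, gensN, hk.comp hf hm]), ?_⟩⟩
  rw [mul_assoc, htu, ← mul_assoc, hbu, mul_assoc]

/-- Some element induces a transvection. -/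
theorem Pres.exists_T (hg : E.Pres g) (hg' : E.Pres g⁻¹) (hz : g * E.z * g⁻¹ ≠ E.z) :
    ∃ t ∈ E.T, ∃ f, F.Rep t f ∧ isT (apN f) = true := by
  rcases F.exists_gens with ⟨t, ht, f, hf, hC⟩ | ⟨⟨t, ht, f, hf, h1⟩, -⟩
  swap
  · exact ⟨t, ht, f, hf, by simp [isT, h1]⟩
  have h := tab_all (lab_table F.e) hf.1
  simp only [hC, Bool.not_true, Bool.false_or, Bool.and_eq_true] at h
  obtain ⟨l, hl, hl'⟩ := List.any_eq_true.1 h.1.2
  obtain ⟨b, hb, k, hk, hkl⟩ := hg.label F hg' hz (List.mem_range.1 hl)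
  obtain ⟨hbT, -⟩ := hg.map_rad0 hb
  obtain ⟨m, hm⟩ := F.exists_rep ((E.T : Subgroup G).mul_mem ht hbT)
  have h1 := tab_all hl' hk.1
  simp only [hg.shear F hg' hz hb hk, hkl, beq_self, Bool.and_self, Bool.not_true, Bool.false_or] at h1
  exact ⟨_, (E.T : Subgroup G).mul_mem ht hbT, m, hm, by
    rw [isT_congr (eqG_of fun n hn => hf.comp hk hm hn)]; exact h1⟩

/-- The subgroup of the shears in `T`. -/
def Frame.shears : Subgroup G where
  carrier := {t | t ∈ E.T ∧ ∀ f, F.Rep t f → isK (apN f) = true}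
  one_mem' := ⟨(E.T : Subgroup G).one_mem, fun f hf => by
    rw [isK_congr (g := id) (eqG_of fun n hn => show apN f n = n from hf.apply_eq hn hn (by group))]
    exact k_id⟩
  mul_mem' := fun {a b} ha hb => ⟨(E.T : Subgroup G).mul_mem ha.1 hb.1, fun k hk => by
    obtain ⟨f, hf⟩ := F.exists_rep ha.1
    obtain ⟨f', hf'⟩ := F.exists_rep hb.1
    rw [hf.kmul hf' hk, ha.2 f hf, hb.2 f' hf']
    rfl⟩
  inv_mem' := fun {a} ha => ⟨(E.T : Subgroup G).inv_mem ha.1, fun k hk => by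
    obtain ⟨f, hf⟩ := F.exists_rep ha.1
    rw [hf.kinv hk, ha.2 f hf]⟩

theorem Frame.shears_le : F.shears ≤ (E.T : Subgroup G) := fun _ h => h.1

theorem Frame.mem_shears {t : G} {f : ℕ} (hf : F.Rep t f) (ht : t ∈ E.T) :
    t ∈ F.shears ↔ isK (apN f) = true := by
  refine ⟨fun h => h.2 f hf, fun h => ⟨ht, fun k hk => ?_⟩⟩
  rw [isK_congr (g := apN f) (eqG_of fun n hn => hk.apply_eq hn (hf.lt hn) (hf.2 n hn)), h]

theorem Frame.shears_index {t : G} {f : ℕ} (hf : F.Rep t f) (ht : t ∈ E.T) (hT : isT (apN f) = true) :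
    F.shears.relIndex (E.T : Subgroup G) = 2 := by
  have hk : isK (apN f) = false := by
    have h := tab_all (lab_table F.e) hf.1
    simp only [hT, Bool.true_or, Bool.true_and, Bool.and_eq_true, Bool.not_eq_true'] at h
    exact h.2
  show (F.shears.subgroupOf (E.T : Subgroup G)).index = 2
  rw [Subgroup.index_eq_two_iff]
  refine ⟨⟨t, ht⟩, fun b => ?_⟩
  obtain ⟨k, hb⟩ := F.exists_rep b.2
  obtain ⟨m, hm⟩ := F.exists_rep ((E.T : Subgroup G).mul_mem b.2 ht)
  simp only [Subgroup.mem_subgroupOf, Subgroup.coe_mul]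
  rw [F.mem_shears hb b.2, F.mem_shears hm ((E.T : Subgroup G).mul_mem b.2 ht), hb.kmul hf hm, hk]
  cases isK (apN k) <;> simp [Xor']

end Extra

end Cfsg.Agent.Transfer.NoEightExtra
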